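import Mathlib
import Cfsg.Agent.S0675

/-!
Preliminaries on groups of prime degree, lines of size `p + 1` on `p² + 1` points, and groups of
order twice an odd number.
-/

set_option autoImplicit false
set_option linter.unusedSectionVars false

namespace CfsgLib.DoublyPrim

open MulAction
open scoped Pointwise

section PrimeDegree

variable {β : Type*} [Finite β] {H : Subgroup (Equiv.Perm β)}

/-- Only the identity fixes two points. -/
def SRG (H : Subgroup (Equiv.Perm β)) : Prop :=
  ∀ h ∈ H, ∀ i j : β, i ≠ j → h i = i → h j = j → h = 1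

variable (hq : (Nat.card β).Prime) (htr : ∀ i j : β, ∃ h ∈ H, h i = j)
include hq htr

theorem rel_all (R : β → β → Prop) (hR : Equivalence R)
    (hinv : ∀ h ∈ H, ∀ i j, R i j → R (h i) (h j)) (hex : ∃ i j, i ≠ j ∧ R i j) :
    ∀ i j, R i j := by
  obtain ⟨i, j, hij, hRij⟩ := hex
  haveI : IsPretransitive H β := ⟨fun x y => by
    obtain ⟨h, hh, he⟩ := htr x y
    exact ⟨⟨h, hh⟩, he⟩⟩
  let B : Set β := {k | R i k}
  have himg : ∀ (h : H), h • B = {k | R ((h : Equiv.Perm β) i) k} := by
    intro h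
    ext k
    rw [Set.mem_smul_set_iff_inv_smul_mem]
    constructor
    · intro hk
      have := hinv _ h.2 _ _ hk
      simpa [Subgroup.smul_def] using this
    · intro hk
      have := hinv _ (h⁻¹).2 _ _ hk
      simpa [Subgroup.smul_def, B] using this
  have hB : IsBlock H B := by
    intro g₁ g₂ hne
    rw [Set.disjoint_left]
    intro k hk1 hk2
    apply hne
    rw [himg] at hk1 hk2 ⊢
    rw [himg]
    ext m
    exact ⟨fun hm => hR.trans hk2 (hR.trans (hR.symm hk1) hm),
      fun hm => hR.trans hk1 (hR.trans (hR.symm hk2) hm)⟩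
  have hd := hB.ncard_dvd_card ⟨i, hR.refl i⟩
  rcases hq.eq_one_or_self_of_dvd _ hd with h1 | h1
  · exact absurd ((Set.ncard_le_one_iff (Set.toFinite B)).1 h1.le (hR.refl i) hRij) hij
  · have hu : B = Set.univ := Set.eq_of_subset_of_ncard_le (Set.subset_univ _)
      (by rw [Set.ncard_univ, h1]) Set.finite_univ
    intro x y
    have hx : x ∈ B := hu ▸ Set.mem_univ x
    have hy : y ∈ B := hu ▸ Set.mem_univ y
    exact hR.trans (hR.symm hx) hy

theorem normal_transitive (N : Subgroup (Equiv.Perm β))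
    (hnorm : ∀ h ∈ H, ∀ n ∈ N, h * n * h⁻¹ ∈ N) (hne : N ≠ ⊥) :
    ∀ i j : β, ∃ n ∈ N, n i = j := by
  refine rel_all hq htr (fun i j => ∃ n ∈ N, n i = j) ⟨fun i => ⟨1, N.one_mem, rfl⟩,
    fun ⟨n, hn, he⟩ => ⟨n⁻¹, N.inv_mem hn, by rw [← he]; simp⟩,
    fun ⟨n, hn, he⟩ ⟨m, hm, he'⟩ => ⟨m * n, N.mul_mem hm hn, by simp [he, he']⟩⟩ ?_ ?_
  · rintro h hh i j ⟨n, hn, rfl⟩
    exact ⟨h * n * h⁻¹, hnorm h hh n hn, by simp⟩
  · by_contra hcon
    push Not at hcon
    refine hne ((Subgroup.eq_bot_iff_forall N).2 fun n hn => Equiv.ext fun i => ?_)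
    by_contra hi
    exact hcon i (n i) (Ne.symm hi) n hn rfl

theorem sr_of_normal_prime (T : Subgroup (Equiv.Perm β))
    (hnorm : ∀ h ∈ H, ∀ n ∈ T, h * n * h⁻¹ ∈ T) (hT : Nat.card T = Nat.card β) : SRG H := by
  haveI := Fact.mk hq
  haveI : IsCyclic T := isCyclic_of_prime_card hT
  have hne : T ≠ ⊥ := fun h => hq.one_lt.ne' (by rw [← hT, h, Subgroup.card_bot])
  have htrT := normal_transitive hq htr T hnorm hne
  intro h hh i j hij hi hj
  have hbij : Function.Bijective fun n : T => (n : Equiv.Perm β) i := by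
    rw [Nat.bijective_iff_surjective_and_card]
    refine ⟨fun y => ?_, hT⟩
    obtain ⟨n, hn, he⟩ := htrT i y
    exact ⟨⟨n, hn⟩, he⟩
  obtain ⟨⟨t, ht⟩, he⟩ := hbij.2 j
  have hi' : h⁻¹ i = i := Equiv.Perm.inv_eq_iff_eq.2 hi.symm
  have hc : h * t * h⁻¹ = t := by
    have := hbij.1 (a₁ := ⟨h * t * h⁻¹, hnorm h hh t ht⟩) (a₂ := ⟨t, ht⟩)
      (by simp only [Equiv.Perm.mul_apply, hi']; rw [show t i = j from he]; exact hj)
    exact congrArg Subtype.val this
  have hgen : Subgroup.zpowers (⟨t, ht⟩ : T) = ⊤ := zpowers_eq_top_of_prime_card hT (by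
    intro h1
    exact hij (by rw [← he, h1]; rfl))
  refine Equiv.ext fun y => ?_
  obtain ⟨n, rfl⟩ := hbij.2 y
  obtain ⟨k, hk⟩ := Subgroup.mem_zpowers_iff.1 (hgen ▸ Subgroup.mem_top n)
  have hcn : Commute h (n : Equiv.Perm β) := by
    rw [← hk]
    exact (show Commute h t from mul_inv_eq_iff_eq_mul.1 hc).zpow_right k
  show h ((n : Equiv.Perm β) i) = _
  rw [show h ((n : Equiv.Perm β) i) = (n : Equiv.Perm β) (h i) from
    Equiv.congr_fun hcn.eq i, hi]
  rfl

theorem normal_prime_of_sr (hsr : SRG H) :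
    ∃ T : Subgroup (Equiv.Perm β), T ≤ H ∧ (∀ h ∈ H, ∀ n ∈ T, h * n * h⁻¹ ∈ T) ∧
      Nat.card T = Nat.card β := by
  classical
  haveI := Fact.mk hq
  haveI : Fintype β := Fintype.ofFinite β
  haveI : IsPretransitive H β := ⟨fun x y => by
    obtain ⟨h, hh, he⟩ := htr x y
    exact ⟨⟨h, hh⟩, he⟩⟩
  haveI : Nonempty β := by
    by_contra hne
    rw [not_nonempty_iff] at hne
    simp [Nat.card_of_isEmpty, Nat.not_prime_zero] at hq
  have hdvd : Nat.card β ∣ Nat.card H := by
    obtain ⟨i⟩ := ‹Nonempty β›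
    rw [← MulAction.index_stabilizer_of_transitive H i]
    exact Subgroup.index_dvd_card _
  obtain ⟨t, ht⟩ := exists_prime_orderOf_dvd_card' (Nat.card β) hdvd
  set T : Subgroup (Equiv.Perm β) := Subgroup.zpowers (t : Equiv.Perm β) with hTdef
  have hTc : Nat.card T = Nat.card β := by
    rw [hTdef, Nat.card_zpowers, Subgroup.orderOf_coe, ht]
  have hTH : T ≤ H := Subgroup.zpowers_le.2 t.2
  -- elements without fixed point
  let S : Finset H := Finset.univ.filter fun h : H => ∀ i, (h : Equiv.Perm β) i ≠ i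
  have hS : S.card + 1 ≤ Nat.card β := by
    have hB := sum_card_fixedBy_eq_card_orbits_mul_card_group H β
    haveI : Unique (Quotient (orbitRel H β)) := by
      refine @Unique.mk' _ ⟨Quotient.mk _ (Classical.arbitrary β)⟩ ⟨?_⟩
      intro a b
      induction a using Quotient.inductionOn'
      induction b using Quotient.inductionOn'
      exact Quotient.sound (exists_smul_eq H _ _)
    rw [Fintype.card_unique, one_mul] at hB
    have hle : ∀ h : H, (if h = 1 then Nat.card β - 1 else 0) + 1 ≤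
        Fintype.card (fixedBy β h) + (if h ∈ S then 1 else 0) := by
      intro h
      by_cases h1 : h = 1
      · subst h1
        simp only [if_true, fixedBy_one_eq_univ, Fintype.card_setUniv, Nat.card_eq_fintype_card]
        have := Fintype.card_pos (α := β)
        omega
      · rw [if_neg h1]
        by_cases hS : h ∈ S
        · simp [hS]
        · rw [if_neg hS]
          simp only [S, Finset.mem_filter, Finset.mem_univ, true_and, not_forall, not_not] at hS
          obtain ⟨i, hi⟩ := hS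
          exact (Nat.succ_le_of_lt (Fintype.card_pos_iff.2 ⟨⟨i, hi⟩⟩)).trans (le_add_right le_rfl)
    have hge : ∀ h : H, Fintype.card (fixedBy β h) + (if h ∈ S then 1 else 0) ≤
        (if h = 1 then Nat.card β - 1 else 0) + 1 := by
      intro h
      by_cases h1 : h = 1
      · subst h1
        have hn : (1 : H) ∉ S := by
          simp [S]
        simp only [if_true, if_neg hn, fixedBy_one_eq_univ, Fintype.card_setUniv,
          Nat.card_eq_fintype_card]
        have := Fintype.card_pos (α := β)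
        omega
      · rw [if_neg h1]
        by_cases hS : h ∈ S
        · rw [if_pos hS]
          have h' := (Finset.mem_filter.1 hS).2
          have : Fintype.card (fixedBy β h) = 0 := Fintype.card_eq_zero_iff.2 ⟨fun x => h' _ x.2⟩
          omega
        · rw [if_neg hS, add_zero, zero_add, Fintype.card_le_one_iff]
          rintro ⟨a, ha⟩ ⟨b, hb⟩
          refine Subtype.ext (by_contra fun hab => h1 (Subtype.ext ?_))
          exact hsr _ h.2 a b hab ha hb
    have he := Finset.sum_congr rfl fun h (_ : h ∈ Finset.univ) => le_antisymm (hle h) (hge h)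
    simp only [Finset.sum_add_distrib, Finset.sum_ite_eq', Finset.mem_univ, if_true,
      Finset.sum_const, Finset.card_univ, smul_eq_mul, mul_one, hB, Finset.sum_ite_mem,
      Finset.univ_inter] at he
    have hpos : 0 < Nat.card β := hq.pos
    omega
  have hfree : ∀ s : T, s ≠ 1 → ∀ i, (s : Equiv.Perm β) i ≠ i := by
    intro s hs i hi
    have hgen := zpowers_eq_top_of_prime_card hTc hs
    have htfix : ∀ n : T, (n : Equiv.Perm β) i = i := by
      intro n
      obtain ⟨k, rfl⟩ := Subgroup.mem_zpowers_iff.1 (hgen ▸ Subgroup.mem_top n)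
      rw [SubgroupClass.coe_zpow]
      exact Equiv.Perm.zpow_apply_eq_self_of_apply_eq_self hi k
    have hpg : IsPGroup (Nat.card β) T := IsPGroup.of_card (n := 1) (by rw [pow_one, hTc])
    have hmod := hpg.card_modEq_card_fixedPoints β
    have hpos : 0 < Nat.card (fixedPoints T β) :=
      @Nat.card_pos _ ⟨⟨i, fun n => htfix n⟩⟩ _
    have hle : Nat.card (fixedPoints T β) ≤ Nat.card β :=
      Finite.card_subtype_le _
    have hdd : Nat.card β ∣ Nat.card (fixedPoints T β) :=
      Nat.modEq_zero_iff_dvd.1 (hmod.symm.trans (Nat.modEq_zero_iff_dvd.2 dvd_rfl))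
    have heq : Nat.card (fixedPoints T β) = Nat.card β := le_antisymm hle (Nat.le_of_dvd hpos hdd)
    have huniv : fixedPoints T β = Set.univ := Set.eq_of_subset_of_ncard_le (Set.subset_univ _)
      (by rw [Set.ncard_univ, ← Nat.card_coe_set_eq, heq]) Set.finite_univ
    exact hs (Subtype.ext (Equiv.ext fun y => (huniv ▸ Set.mem_univ y : y ∈ fixedPoints T β) s))
  let T' : Finset H := (Finset.univ.filter fun h : H => (h : Equiv.Perm β) ∈ T ∧ h ≠ 1)
  have hsub : T' ⊆ S := by
    intro h hh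
    simp only [T', Finset.mem_filter, Finset.mem_univ, true_and] at hh
    simp only [S, Finset.mem_filter, Finset.mem_univ, true_and]
    exact hfree ⟨h, hh.1⟩ fun e => hh.2 (Subtype.ext (congrArg (fun s : T => (s : Equiv.Perm β)) e))
  have hT' : T'.card + 1 = Nat.card β := by
    have e : insert (1 : H) T' = Finset.univ.filter fun h : H => (h : Equiv.Perm β) ∈ T := by
      ext h
      by_cases h1 : h = 1 <;> simp [T', h1]
    have hni : (1 : H) ∉ T' := by simp [T']
    rw [← Finset.card_insert_of_notMem hni, e, ← hTc, ← Fintype.card_subtype,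
      ← Nat.card_eq_fintype_card]
    exact Nat.card_congr ⟨fun h => ⟨h.1, h.2⟩, fun n => ⟨⟨n.1, hTH n.2⟩, n.2⟩, fun _ => rfl,
      fun _ => rfl⟩
  have hST : T' = S := Finset.eq_of_subset_of_card_le hsub (by omega)
  refine ⟨T, hTH, fun h hh n hn => ?_, hTc⟩
  by_cases hn1 : n = 1
  · subst hn1
    simp
  · have hmem : (⟨h * n * h⁻¹, H.mul_mem (H.mul_mem hh (hTH hn)) (H.inv_mem hh)⟩ : H) ∈ S := by
      simp only [S, Finset.mem_filter, Finset.mem_univ, true_and, Equiv.Perm.mul_apply]
      intro i hi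
      exact hfree ⟨n, hn⟩ (fun e => hn1 (congrArg Subtype.val e)) (h⁻¹ i)
        (Equiv.Perm.eq_inv_iff_eq.2 hi)
    rw [← hST] at hmem
    exact (Finset.mem_filter.1 hmem).2.1

theorem sr_or_two_trans : SRG H ∨
    ∀ i j k : β, j ≠ i → k ≠ i → ∃ h ∈ H, h i = i ∧ h j = k := by
  classical
  haveI : Fintype β := Fintype.ofFinite β
  haveI : IsPretransitive H β := ⟨fun x y => by
    obtain ⟨h, hh, he⟩ := htr x y
    exact ⟨⟨h, hh⟩, he⟩⟩
  rcases Cfsg.Agent.S0675.result (Nat.card_eq_fintype_card (α := β) ▸ hq) H with hs | h2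
  · left
    obtain ⟨n, hn⟩ := (Group.isSolvable_def (G := H)).1 hs
    by_cases hbot : H = ⊥
    · intro h hh i j _ _ _
      rw [hbot] at hh
      exact hh
    have hex : ∃ m, derivedSeries H m = ⊥ := ⟨n, hn⟩
    obtain ⟨m, hm⟩ : ∃ m, Nat.find hex = m + 1 := by
      refine ⟨Nat.find hex - 1, ?_⟩
      have : Nat.find hex ≠ 0 := by
        intro h0
        have := Nat.find_spec hex
        rw [h0, derivedSeries_zero] at this
        refine hbot ((Subgroup.eq_bot_iff_forall H).2 fun h hh => ?_)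
        have : (⟨h, hh⟩ : H) ∈ (⊥ : Subgroup H) := this ▸ Subgroup.mem_top _
        exact congrArg Subtype.val (Subgroup.mem_bot.1 this)
      omega
    let A : Subgroup (Equiv.Perm β) := (derivedSeries H m).map H.subtype
    have hA : ∀ h ∈ H, ∀ a ∈ A, h * a * h⁻¹ ∈ A := by
      rintro h hh _ ⟨a, ha, rfl⟩
      exact ⟨⟨h, hh⟩ * a * ⟨h, hh⟩⁻¹, (derivedSeries_normal H m).conj_mem a ha _, rfl⟩
    have hAne : A ≠ ⊥ := by
      intro h0
      refine Nat.find_min hex (by omega : m < Nat.find hex) ?_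
      rwa [Subgroup.map_eq_bot_iff_of_injective _ H.subtype_injective] at h0
    have hcomm : ∀ x ∈ A, ∀ y ∈ A, x * y = y * x := by
      rintro _ ⟨x, hx, rfl⟩ _ ⟨y, hy, rfl⟩
      have hz := Nat.find_spec hex
      rw [hm, derivedSeries_succ, Subgroup.commutator_eq_bot_iff_le_centralizer] at hz
      rw [← map_mul, ← map_mul, (Subgroup.mem_centralizer_iff.1 (hz hy) x hx)]
    have htA := normal_transitive hq htr A hA hAne
    obtain ⟨i⟩ : Nonempty β := ⟨Classical.choice (by
      by_contra hne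
      rw [not_nonempty_iff] at hne
      simp [Nat.card_of_isEmpty, Nat.not_prime_zero] at hq)⟩
    refine sr_of_normal_prime hq htr A hA (Nat.card_eq_of_bijective (fun a : A => (a : Equiv.Perm β) i)
      ⟨fun a b hab => Subtype.ext (Equiv.ext fun y => ?_), fun y => ?_⟩)
    · obtain ⟨c, hc, rfl⟩ := htA i y
      have h1 := Equiv.congr_fun (hcomm _ a.2 c hc) i
      have h2 := Equiv.congr_fun (hcomm _ b.2 c hc) i
      simp only [Equiv.Perm.mul_apply] at h1 h2
      rw [h1, h2, show (a : Equiv.Perm β) i = (b : Equiv.Perm β) i from hab]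
    · obtain ⟨c, hc, he⟩ := htA i y
      exact ⟨⟨c, hc⟩, he⟩
  · right
    intro i j k hj hk
    obtain ⟨h, h1, h2'⟩ := is_two_pretransitive_iff.1 h2 hj.symm hk.symm
    exact ⟨h, h.2, h1, h2'⟩

theorem fix_only {i : β} (N : Subgroup (Equiv.Perm β)) (hN : N ≤ H)
    (hNi : ∀ n ∈ N, n i = i) (hnorm : ∀ h ∈ H, h i = i → ∀ n ∈ N, h * n * h⁻¹ ∈ N)
    (hne : N ≠ ⊥) {j : β} (hj : ∀ n ∈ N, n j = j) : j = i := by
  by_contra hji
  obtain ⟨n, hn, hn1⟩ : ∃ n, n ∈ N ∧ n ≠ 1 := by
    obtain ⟨n, hn⟩ := Subgroup.ne_bot_iff_exists_ne_one.1 hne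
    exact ⟨n, n.2, fun e => hn (Subtype.ext e)⟩
  rcases sr_or_two_trans hq htr with hsr | h2
  · exact hn1 (hsr n (hN hn) i j (Ne.symm hji) (hNi n hn) (hj n hn))
  · refine hn1 (Equiv.ext fun k => ?_)
    by_cases hk : k = i
    · subst hk
      exact hNi n hn
    obtain ⟨h, hh, hhi, hhj⟩ := h2 i j k hji hk
    have hmem : h⁻¹ * n * h⁻¹⁻¹ ∈ N :=
      hnorm h⁻¹ (H.inv_mem hh) (Equiv.Perm.inv_eq_iff_eq.2 hhi.symm) n hn
    have := hj _ hmem
    simp only [inv_inv, Equiv.Perm.mul_apply, hhj, Equiv.Perm.inv_eq_iff_eq] at this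
    simpa [hhj] using this

theorem sr_of_comm_stab
    (hc : ∀ i : β, ∀ g ∈ H, ∀ h ∈ H, g i = i → h i = i → g * h = h * g) : SRG H := by
  haveI : IsPretransitive H β := ⟨fun x y => by
    obtain ⟨h, hh, he⟩ := htr x y
    exact ⟨⟨h, hh⟩, he⟩⟩
  haveI : Nontrivial β := Finite.one_lt_card_iff_nontrivial.1 hq.one_lt
  haveI : IsPreprimitive H β := IsPreprimitive.of_prime_card hq
  intro h hh i j hij hi hj
  let hH : H := ⟨h, hh⟩
  let C : Subgroup H := Subgroup.centralizer {hH}
  have hle : ∀ k, h k = k → stabilizer H k ≤ C := fun k hk g hg =>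
    Subgroup.mem_centralizer_singleton_iff.2 (Subtype.ext (hc k g g.2 h hh hg hk))
  rcases ((IsPreprimitive.isCoatom_stabilizer_of_isPreprimitive H i).le_iff).1 (hle i hi) with hC | hC
  · refine Equiv.ext fun k => ?_
    obtain ⟨g, hg, rfl⟩ := htr i k
    have hm : (⟨g, hg⟩ : H) ∈ C := hC ▸ Subgroup.mem_top _
    have := congrArg (fun x : H => (x : Equiv.Perm β) i)
      (Subgroup.mem_centralizer_singleton_iff.1 hm)
    simp only [Subgroup.coe_mul, Equiv.Perm.mul_apply, hH, hi] at this
    exact this.symm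
  · have hji : stabilizer H j ≤ stabilizer H i := hC ▸ hle j hj
    have heq : stabilizer H j = stabilizer H i := by
      rcases ((IsPreprimitive.isCoatom_stabilizer_of_isPreprimitive H j).le_iff).1 hji with h' | h'
      · exact absurd h' (IsPreprimitive.isCoatom_stabilizer_of_isPreprimitive H i).1
      · exact h'.symm
    have hall := rel_all hq htr (fun k l => ∀ g ∈ H, (g k = k ↔ g l = l))
      ⟨fun _ _ _ => Iff.rfl, fun h g hg => (h g hg).symm,
        fun h h' g hg => (h g hg).trans (h' g hg)⟩ ?_ ⟨i, j, hij, fun g hg => ?_⟩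
    · exact Equiv.ext fun k => (hall i k h hh).1 hi
    · intro a ha k l hkl g hg
      have := hkl (a⁻¹ * g * a) (H.mul_mem (H.mul_mem (H.inv_mem ha) hg) ha)
      simp only [Equiv.Perm.mul_apply, Equiv.Perm.inv_eq_iff_eq] at this
      exact this
    · exact ⟨fun h1 => (show (⟨g, hg⟩ : H) ∈ stabilizer H j from heq ▸ h1),
        fun h1 => (show (⟨g, hg⟩ : H) ∈ stabilizer H i from hji h1)⟩

end PrimeDegree

/-- There is no system of lines with `p + 1` points through every pair of `p² + 1` points. -/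
theorem no_lines {Ω : Type*} [Fintype Ω] [DecidableEq Ω] {p : ℕ} (hp : 2 ≤ p)
    (hΩ : Fintype.card Ω = p ^ 2 + 1) (F : Ω → Ω → Finset Ω)
    (hmem : ∀ x y, x ≠ y → x ∈ F x y ∧ y ∈ F x y)
    (hcard : ∀ x y, x ≠ y → (F x y).card = p + 1)
    (hsymm : ∀ x y, x ≠ y → F x y = F y x)
    (heq : ∀ x y z, x ≠ y → z ∈ F x y → z ≠ x → F x z = F x y) : False := by
  let P := (Finset.univ : Finset Ω).offDiag
  have hfib : ∀ ℓ ∈ P.image (fun q => F q.1 q.2),
      (P.filter fun q => F q.1 q.2 = ℓ).card = (p + 1) * p := by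
    intro ℓ hℓ
    simp only [Finset.mem_image, P, Finset.mem_offDiag, Finset.mem_univ, true_and] at hℓ
    obtain ⟨⟨x, y⟩, hxy, rfl⟩ := hℓ
    have e : (P.filter fun q => F q.1 q.2 = F x y) = (F x y).offDiag := by
      ext ⟨u, v⟩
      simp only [P, Finset.mem_filter, Finset.mem_offDiag, Finset.mem_univ, true_and]
      constructor
      · rintro ⟨huv, h⟩
        exact ⟨h ▸ (hmem u v huv).1, h ▸ (hmem u v huv).2, huv⟩
      · rintro ⟨hu, hv, huv⟩
        refine ⟨huv, ?_⟩
        by_cases hux : u = x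
        · subst hux
          exact heq _ _ v hxy hv (Ne.symm huv)
        · have h1 : F u x = F x y := by
            rw [← hsymm x u (Ne.symm hux)]
            exact heq _ _ u hxy hu hux
          rw [← h1]
          exact heq _ _ v hux (h1 ▸ hv) (Ne.symm huv)
    rw [e, Finset.offDiag_card, hcard x y hxy, ← Nat.mul_sub_one, Nat.add_sub_cancel]
  have h := Finset.card_eq_sum_card_image (fun q => F q.1 q.2) P
  rw [Finset.sum_congr rfl hfib, Finset.sum_const, smul_eq_mul, Finset.offDiag_card,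
    Finset.card_univ, hΩ, ← Nat.mul_sub_one, Nat.add_sub_cancel] at h
  set N := (P.image fun q => F q.1 q.2).card
  have h' : (p ^ 2 + 1) * p = N * (p + 1) := by
    refine Nat.eq_of_mul_eq_mul_right (show 0 < p by omega) ?_
    linarith
  have h2 : p + 1 ∣ 2 * p := by
    have hz : ((p : ℤ) + 1) ∣ 2 * p := by
      refine ⟨(N : ℤ) - (p - 1) * p, ?_⟩
      have : ((p : ℤ) ^ 2 + 1) * p = N * (p + 1) := by exact_mod_cast h'
      linear_combination this
    exact_mod_cast hz
  obtain ⟨k, hk⟩ := h2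
  rcases k with _ | _ | k
  · omega
  · omega
  · nlinarith

/-- A group of order twice an odd number has a subgroup of index two. -/
theorem exists_index_two {G : Type*} [Group G] [Finite G] {m : ℕ} (hm : Odd m)
    (hG : Nat.card G = 2 * m) : ∃ N : Subgroup G, N.Normal ∧ N.index = 2 := by
  haveI := Fact.mk Nat.prime_two
  obtain ⟨S⟩ : Nonempty (Sylow 2 G) := inferInstance
  have hS : Nat.card S = 2 := by
    rw [Sylow.card_eq_multiplicity, hG, Nat.factorization_mul two_ne_zero hm.pos.ne']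
    have : m.factorization 2 = 0 :=
      Nat.factorization_eq_zero_of_not_dvd fun h => hm.not_two_dvd_nat h
    simp [this, Nat.prime_two.factorization_self]
  haveI : IsCyclic S := isCyclic_of_prime_card hS
  have hn : Subgroup.normalizer ((S : Subgroup G) : Set G) ≤ Subgroup.centralizer (S : Set G) := by
    refine IsCyclic.normalizer_le_centralizer ?_ inferInstance
    rw [hG, Nat.minFac_eq_two_iff]
    exact dvd_mul_right 2 m
  haveI : IsMulCommutative S := inferInstance
  refine ⟨(MonoidHom.transferSylow S hn).ker, inferInstance, ?_⟩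
  rw [(MonoidHom.ker_transferSylow_isComplement' S hn).symm.index_eq_card, hS]

end CfsgLib.DoublyPrim
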