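import Cfsg.Agent.Lib.DoublyPrim.Setting

/-!
The case where the kernels on lines have normal Sylow subgroups.
-/

set_option autoImplicit false
set_option linter.unusedSectionVars false
set_option linter.style.haveILetI false

namespace CfsgLib.DoublyPrim

open MulAction
open scoped Pointwise

theorem pgroup_perm_card_le {β : Type*} [Finite β] {p : ℕ} (hp : p.Prime) (hβ : Nat.card β = p)
    (Q : Subgroup (Equiv.Perm β)) (hQ : IsPGroup p Q) : Nat.card Q ≤ p := by
  haveI := Fact.mk hp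
  obtain ⟨i, hi⟩ := IsPGroup.iff_card.1 hQ
  rw [hi]
  rcases le_or_gt i 1 with h | h
  · calc p ^ i ≤ p ^ 1 := Nat.pow_le_pow_right hp.pos h
      _ = p := pow_one p
  · exfalso
    have hd := Subgroup.card_subgroup_dvd_card Q
    rw [Nat.card_perm, hβ, hi] at hd
    have h2 : p ^ 2 ∣ p.factorial := (pow_dvd_pow p h).trans hd
    obtain ⟨k, hk⟩ : ∃ k, p = k + 1 := ⟨p - 1, by have := hp.pos; omega⟩
    have h3 : p * p ∣ p * k.factorial := by
      rw [← pow_two]
      refine h2.trans (dvd_of_eq ?_)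
      rw [hk, Nat.factorial_succ]
    have h4 := (hp.dvd_factorial).1 (Nat.dvd_of_mul_dvd_mul_left hp.pos h3)
    omega

variable {G Ω : Type*} [Group G] [Finite G] [Fintype Ω] [DecidableEq Ω] [MulAction G Ω]
  [FaithfulSMul G Ω] {p : ℕ} (S : Sys G Ω p)

theorem conj_smul {g h : G} {z : Ω} : (g * h * g⁻¹) • (g • z) = g • h • z := by
  rw [smul_smul, inv_mul_cancel_right, mul_smul]

theorem exists_exp {X : Subgroup G} (hc : (Nat.card X).Prime) {g : G}
    (hg : ∀ a ∈ X, g * a * g⁻¹ ∈ X) : ∃ i : ℤ, ∀ a ∈ X, g * a * g⁻¹ = a ^ i := by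
  haveI := Fact.mk hc
  haveI : IsCyclic X := isCyclic_of_prime_card rfl
  obtain ⟨x₀, hx₀⟩ := IsCyclic.exists_generator (α := X)
  obtain ⟨i, hi⟩ := Subgroup.mem_zpowers_iff.1 (hx₀ ⟨g * x₀ * g⁻¹, hg x₀ x₀.2⟩)
  have hi' : (x₀ : G) ^ i = g * x₀ * g⁻¹ := congrArg Subtype.val hi
  refine ⟨i, fun a ha => ?_⟩
  obtain ⟨j, hj⟩ := Subgroup.mem_zpowers_iff.1 (hx₀ ⟨a, ha⟩)
  have hj' : (x₀ : G) ^ j = a := congrArg Subtype.val hj
  rw [← hj', ← zpow_mul, mul_comm, zpow_mul, hi', ← MulAut.conj_apply, map_zpow,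
    MulAut.conj_apply]

theorem comm_of_prime {X : Subgroup G} (hc : (Nat.card X).Prime) {a b : G} (ha : a ∈ X)
    (hb : b ∈ X) : a * b = b * a := by
  haveI := Fact.mk hc
  haveI : IsCyclic X := isCyclic_of_prime_card rfl
  letI : CommGroup X := IsCyclic.commGroup
  exact congrArg Subtype.val (mul_comm (⟨a, ha⟩ : X) ⟨b, hb⟩)

theorem commute_of_gen {X : Subgroup G} (hc : (Nat.card X).Prime) {a : G} (ha : a ∈ X)
    (ha1 : a ≠ 1) {g : G} (h : g * a = a * g) : ∀ b ∈ X, g * b = b * g := by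
  haveI := Fact.mk hc
  intro b hb
  have hgen := zpowers_eq_top_of_prime_card rfl
    (g := (⟨a, ha⟩ : X)) (fun e => ha1 (congrArg Subtype.val e))
  obtain ⟨j, hj⟩ := Subgroup.mem_zpowers_iff.1 (hgen ▸ Subgroup.mem_top (⟨b, hb⟩ : X))
  have hj' : a ^ j = b := congrArg Subtype.val hj
  rw [← hj']
  exact ((show Commute g a from h).zpow_right j).eq

theorem card_St2_smul (g : G) (x y : Ω) :
    Nat.card (St2 G (g • x) (g • y)) = Nat.card (St2 G x y) := by
  have e : St2 G (g • x) (g • y) = (St2 G x y).map (MulAut.conj g).toMonoidHom := by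
    rw [St2, St2, stabilizer_smul_eq_stabilizer_map_conj, stabilizer_smul_eq_stabilizer_map_conj,
      Subgroup.map_inf _ _ _ (MulAut.conj g).injective]
  rw [e, Subgroup.card_map_of_injective (MulAut.conj g).injective]

namespace Sys

include S

theorem smul_L_mem {g : G} {x y z : Ω} (h : x ≠ y) :
    g • z ∈ S.L (g • x) (g • y) ↔ z ∈ S.L x y :=
  S.equivar g x y z h

/-- The element of `Ker x` of order `p` centralizing a subgroup `X` of order `p`. -/
theorem mem_X_of_comm {x : Ω} {X : Subgroup G} (hXK : X ≤ S.Ker x) (hXc : Nat.card X = p)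
    {k : G} (hk : k ∈ S.Ker x) (hcomm : ∀ a ∈ X, k * a = a * k) : k ∈ X := by
  haveI := Fact.mk S.hp
  have hkp : k ^ p = 1 := eq_one_of_forall (Ω := Ω) fun z => by
    by_cases hz : z = x
    · subst hz
      exact ((stabilizer G z).pow_mem hk.1 p : _)
    obtain ⟨a, ha, he⟩ := S.X_trans hXK hXc hz (smul_ne_of_fix hk.1 hz) (hk.2 z hz).symm
    have hpow : ∀ i : ℕ, (k ^ i) • z = (a ^ i) • z := by
      intro i
      induction i with
      | zero => simp
      | succ i ih =>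
        rw [pow_succ', mul_smul, ih, smul_smul,
          ((show Commute k a from hcomm a ha).pow_right i).eq, mul_smul, ← he, smul_smul,
          ← pow_succ]
    rw [hpow, S.pow_eq_one_of_mem hXc ha, one_smul]
  set Y : Subgroup G := Subgroup.zpowers k
  have hY : IsPGroup p Y := by
    intro g
    refine ⟨1, Subtype.ext ?_⟩
    obtain ⟨j, hj⟩ := Subgroup.mem_zpowers_iff.1 g.2
    show (g : G) ^ p ^ 1 = 1
    rw [← hj, pow_one, ← zpow_natCast, ← zpow_mul, mul_comm, zpow_mul, zpow_natCast, hkp, one_zpow]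
  have hXp : IsPGroup p X := IsPGroup.of_card (n := 1) (by rw [pow_one, hXc])
  have hle : Y ≤ Subgroup.normalizer (X : Set G) := Subgroup.zpowers_le.2
    (mem_normalizer_of_conj fun a ha => by rw [hcomm a ha, mul_inv_cancel_right]; exact ha)
  have hsup : IsPGroup p (Y ⊔ X : Subgroup G) := hY.to_sup_of_normal_right' hXp hle
  obtain ⟨i, hi⟩ := IsPGroup.iff_card.1 hsup
  have hd : p ^ i ∣ Nat.card (S.Ker x) :=
    hi ▸ Subgroup.card_dvd_of_le (sup_le (Subgroup.zpowers_le.2 hk) hXK)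
  have hi1 : i ≤ 1 := by
    by_contra hi1
    exact S.not_sq_dvd_Ker x ((pow_dvd_pow p (by omega : 2 ≤ i)).trans hd)
  have he : X = Y ⊔ X := Subgroup.eq_of_le_of_card_ge le_sup_right (by
    rw [hi, hXc]
    exact (Nat.pow_le_pow_right S.hp.pos hi1).trans (pow_one p).le)
  rw [he]
  exact Subgroup.mem_sup_left (Subgroup.mem_zpowers k)

/-- The kernel at `x` has a normal subgroup of order `p`. -/
def PC (x : Ω) : Prop := ∃ X : Subgroup G, X ≤ S.Ker x ∧ Nat.card X = p ∧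
  ∀ g : G, g • x = x → ∀ a ∈ X, g * a * g⁻¹ ∈ X

theorem PC_smul {x : Ω} (h : S.PC x) (u : G) : S.PC (u • x) := by
  obtain ⟨X, hXK, hXc, hn⟩ := h
  refine ⟨X.map (MulAut.conj u).toMonoidHom, ?_, ?_, ?_⟩
  · rintro _ ⟨a, ha, rfl⟩
    exact S.conj_Ker (hXK ha) u
  · rw [Subgroup.card_map_of_injective (MulAut.conj u).injective, hXc]
  · rintro g hg _ ⟨a, ha, rfl⟩
    refine ⟨(u⁻¹ * g * u) * a * (u⁻¹ * g * u)⁻¹,
      hn _ (by rw [mul_smul, mul_smul, hg, inv_smul_smul]) a ha, ?_⟩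
    show u * ((u⁻¹ * g * u) * a * (u⁻¹ * g * u)⁻¹) * u⁻¹ = g * (u * a * u⁻¹) * g⁻¹
    group

/-- The centralizer part of a two point stabilizer. -/
def L1 (X : Subgroup G) (x y : Ω) : Subgroup G :=
  St2 G x y ⊓ Subgroup.centralizer (X : Set G)

theorem mem_L1 {X : Subgroup G} {x y : Ω} {g : G} :
    g ∈ L1 X x y ↔ (g • x = x ∧ g • y = y) ∧ ∀ a ∈ X, g * a = a * g := by
  simp only [L1, Subgroup.mem_inf, mem_St2, Subgroup.mem_centralizer_iff, SetLike.mem_coe]
  exact and_congr_right fun _ => ⟨fun h a ha => (h a ha).symm, fun h a ha => (h a ha).symm⟩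

theorem L1_fix {x y : Ω} (hy : y ≠ x) {X : Subgroup G} (hXK : X ≤ S.Ker x) (hXc : Nat.card X = p)
    {n : G} (hn : n ∈ L1 X x y) {z : Ω} (hz : z ∈ S.L x y) : n • z = z := by
  obtain ⟨⟨h1, h2⟩, h3⟩ := (S.mem_L1).1 hn
  by_cases hzx : z = x
  · exact hzx ▸ h1
  obtain ⟨k, hk, hkz⟩ := S.X_trans hXK hXc hy hzx (S.eqL x y z (Ne.symm hy) hz hzx).symm
  rw [← hkz, smul_smul, h3 k hk, mul_smul, h2]

theorem L1_Ker {x y : Ω} (hy : y ≠ x) {X : Subgroup G} (hXK : X ≤ S.Ker x) (hXc : Nat.card X = p)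
    {n : G} (hn : n ∈ L1 X x y) (hK : n ∈ S.Ker x) : n = 1 :=
  S.eq_one_of_fix (Ne.symm hy) ((S.mem_L1).1 hn).1.1 ((S.mem_L1).1 hn).1.2 (k := 1)
    (by rw [pow_one]; exact S.pow_eq_one_of_mem hXc (S.mem_X_of_comm hXK hXc hK ((S.mem_L1).1 hn).2))

theorem L1_normal {x y : Ω} {X : Subgroup G} (hn : ∀ g : G, g • x = x → ∀ a ∈ X, g * a * g⁻¹ ∈ X)
    {g : G} (hg : g ∈ St2 G x y) {n : G} (hn' : n ∈ L1 X x y) : g * n * g⁻¹ ∈ L1 X x y := by
  obtain ⟨hnS, h3⟩ := (S.mem_L1).1 hn'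
  refine (S.mem_L1).2 ⟨((St2 G x y).mul_mem ((St2 G x y).mul_mem hg hnS) ((St2 G x y).inv_mem hg) :
    g * n * g⁻¹ ∈ St2 G x y), fun a ha => ?_⟩
  have hb : g⁻¹ * a * g⁻¹⁻¹ ∈ X := hn g⁻¹ (inv_smul_eq_self hg.1) a ha
  have := h3 _ hb
  calc g * n * g⁻¹ * a = g * (n * (g⁻¹ * a * g⁻¹⁻¹)) * g⁻¹ := by group
    _ = g * ((g⁻¹ * a * g⁻¹⁻¹) * n) * g⁻¹ := by rw [this]
    _ = a * (g * n * g⁻¹) := by group

theorem comm_mem_L1 {x y : Ω} {X : Subgroup G} (hXc : Nat.card X = p)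
    (hn : ∀ g : G, g • x = x → ∀ a ∈ X, g * a * g⁻¹ ∈ X) {g h : G} (hg : g ∈ St2 G x y)
    (hh : h ∈ St2 G x y) : g * h * (h * g)⁻¹ ∈ L1 X x y := by
  refine (S.mem_L1).2 ⟨((St2 G x y).mul_mem ((St2 G x y).mul_mem hg hh)
    ((St2 G x y).inv_mem ((St2 G x y).mul_mem hh hg)) : _ ∈ St2 G x y), fun a ha => ?_⟩
  obtain ⟨i, hi⟩ := exists_exp (hXc ▸ S.hp) (hn g hg.1)
  obtain ⟨j, hj⟩ := exists_exp (hXc ▸ S.hp) (hn h hh.1)
  obtain ⟨b, hb, rfl⟩ : ∃ b ∈ X, (h * g) * b * (h * g)⁻¹ = a :=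
    ⟨(h * g)⁻¹ * a * (h * g)⁻¹⁻¹,
      hn _ (inv_smul_eq_self (by rw [mul_smul, hg.1, hh.1])) a ha, by group⟩
  have e1 : g * h * b * (g * h)⁻¹ = b ^ (j * i) := by
    rw [show g * h * b * (g * h)⁻¹ = g * (h * b * h⁻¹) * g⁻¹ by group, hj b hb,
      hi _ (X.zpow_mem hb j), ← zpow_mul]
  have e2 : h * g * b * (h * g)⁻¹ = b ^ (i * j) := by
    rw [show h * g * b * (h * g)⁻¹ = h * (g * b * g⁻¹) * h⁻¹ by group, hi b hb,
      hj _ (X.zpow_mem hb i), ← zpow_mul]
  calc g * h * (h * g)⁻¹ * (h * g * b * (h * g)⁻¹)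
      = (g * h * b * (g * h)⁻¹) * (g * h * (h * g)⁻¹) := by group
    _ = _ := by rw [e1, mul_comm j i, ← e2]

/-- The basic data of case A at a point. -/
def CaseAPt (x : Ω) : Prop := ∃ X P : Subgroup G, X ≤ S.Ker x ∧ Nat.card X = p ∧
  (∀ g : G, g • x = x → ∀ a ∈ X, g * a * g⁻¹ ∈ X) ∧ X ≤ P ∧ P ≤ stabilizer G x ∧
  Nat.card P = p ^ 2 ∧ (∀ g : G, g • x = x → ∀ a ∈ P, g * a * g⁻¹ ∈ P) ∧
  (∀ k ∈ P, ∀ y, y ≠ x → k • y = y → k = 1) ∧
  (∀ y z, y ≠ x → z ≠ x → ∃ k ∈ P, k • y = z) ∧ (∀ k ∈ P, ∀ l ∈ P, k * l = l * k)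

theorem St2_comm_of_PC (hPC : ∀ x, S.PC x) {x y : Ω} (hy : y ≠ x) {g h : G}
    (hg : g ∈ St2 G x y) (hh : h ∈ St2 G x y) : g * h = h * g := by
  obtain ⟨X, hXK, hXc, hn⟩ := hPC x
  obtain ⟨Y, hYK, hYc, hn'⟩ := hPC y
  by_contra hne
  let M : Subgroup G := L1 X x y ⊓ L1 Y y x
  have hM : g * h * (h * g)⁻¹ ∈ M := ⟨S.comm_mem_L1 hXc hn hg hh,
    S.comm_mem_L1 hYc hn' ⟨hg.2, hg.1⟩ ⟨hh.2, hh.1⟩⟩
  have key : S.L y x ⊆ S.L x y := by
    intro z hz
    refine S.only_fix hy M (fun n hn0 => hn0.1.1) ?_ ?_ fun n hn0 => S.L1_fix (Ne.symm hy) hYK hYc hn0.2 hz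
    · intro u hu n hn0
      exact ⟨S.L1_normal hn hu hn0.1, S.L1_normal hn' (⟨hu.2, hu.1⟩ : u ∈ St2 G y x) hn0.2⟩
    · intro hle
      exact hne (mul_inv_eq_one.1 (S.L1_Ker hy hXK hXc hM.1 (hle hM)))
  exact S.asym hy (S.L_eq_of_subset hy (Ne.symm hy) key)

theorem caseA_pt (hPC : ∀ x, S.PC x) (x : Ω) : S.CaseAPt x := by
  classical
  haveI := Fact.mk S.hp
  obtain ⟨X, hXK, hXc, hn⟩ := hPC x
  obtain ⟨P, hPx, hPc, hfree, htr, hcomm⟩ := S.exists_P x
  have hPK := S.exists_X x hPx hPc htr hcomm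
  set φ := MulAction.toPermHom (stabilizer G x) (S.Ln x)
  have hPp : IsPGroup p P := IsPGroup.of_card hPc
  have hsrg : SRG (S.lineGroup x) := by
    refine sr_of_comm_stab (S.prime_Ln x) S.lineGroup_trans ?_
    rintro ℓ _ ⟨g, rfl⟩ _ ⟨h, rfl⟩ hgℓ hhℓ
    obtain ⟨y, hy, rfl⟩ := S.ln_surj ℓ
    have lift : ∀ u : stabilizer G x, φ u (S.ln x y hy) = S.ln x y hy →
        ∃ v : stabilizer G x, (v : G) ∈ St2 G x y ∧ φ v = φ u := by
      intro u hu
      change u • S.ln x y hy = _ at hu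
      rw [smul_ln, ln_eq] at hu
      obtain ⟨k, hk, hky⟩ := S.exists_Ker_trans (smul_ne_of_fix u.2 hy) hy hu
      refine ⟨⟨k, hk.1⟩ * u, ⟨?_, ?_⟩, ?_⟩
      · exact (show (k * (u : G)) • x = x by rw [mul_smul, show (u : G) • x = x from u.2, hk.1])
      · exact (show (k * (u : G)) • y = y by rw [mul_smul, hky])
      · rw [map_mul, (S.mem_Ker_iff ⟨k, hk.1⟩).1 hk, one_mul]
    obtain ⟨g', hg', eg⟩ := lift g hgℓ
    obtain ⟨h', hh', eh⟩ := lift h hhℓ
    show φ g * φ h = φ h * φ g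
    rw [← eg, ← eh, ← map_mul, ← map_mul]
    exact congrArg φ (Subtype.ext (S.St2_comm_of_PC hPC hy hg' hh'))
  obtain ⟨T, hTle, hTn, hTc⟩ := normal_prime_of_sr (S.prime_Ln x) S.lineGroup_trans hsrg
  rw [S.card_Ln] at hTc
  have hXP : X ≤ P := by
    have hsup : IsPGroup p (P ⊔ X : Subgroup G) := hPp.to_sup_of_normal_right'
      (IsPGroup.of_card (n := 1) (by rw [pow_one, hXc]))
      (fun a ha => mem_normalizer_of_conj (hn a (hPx ha)))
    obtain ⟨i, hi⟩ := IsPGroup.iff_card.1 hsup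
    obtain ⟨y, hy⟩ : ∃ y, y ≠ x := Fintype.exists_ne_of_one_lt_card
      (by rw [S.hcard]; have := S.hp.two_le; nlinarith) x
    have hd : p ^ i ∣ p ^ 2 * Nat.card (St2 G x y) := by
      rw [← hi, ← S.card_stabilizer (Ne.symm hy)]
      exact Subgroup.card_dvd_of_le (sup_le hPx (hXK.trans (S.Ker_le x)))
    have hi2 : p ^ i ∣ p ^ 2 :=
      (((S.hp.coprime_iff_not_dvd).2 (S.not_dvd (Ne.symm hy))).pow_left i).dvd_of_dvd_mul_right hd
    have he : P = P ⊔ X := Subgroup.eq_of_le_of_card_ge le_sup_left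
      (by rw [hi, hPc]; exact Nat.le_of_dvd (pow_pos S.hp.pos 2) hi2)
    exact le_sup_right.trans he.ge
  let P' : Subgroup (stabilizer G x) := P.subgroupOf (stabilizer G x)
  let R : Subgroup (Equiv.Perm (S.Ln x)) := P'.map φ
  have hRle : R ≤ S.lineGroup x := by
    rintro _ ⟨q, -, rfl⟩
    exact ⟨q, rfl⟩
  have hP'p : IsPGroup p P' := hPp.of_equiv (Subgroup.subgroupOfEquivOfLe hPx).symm
  have hRne : R ≠ ⊥ := by
    intro h0
    have hle : P ≤ S.Ker x := fun q hq => by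
      rw [S.mem_Ker_iff (⟨q, hPx hq⟩ : stabilizer G x)]
      exact Subgroup.mem_bot.1 (h0 ▸ Subgroup.mem_map_of_mem φ (show (⟨q, hPx hq⟩ : stabilizer G x) ∈ P' from hq))
    rw [inf_eq_left.2 hle, hPc] at hPK
    have := S.hp.two_le
    nlinarith
  have hsupT : IsPGroup p (R ⊔ T : Subgroup (Equiv.Perm (S.Ln x))) :=
    (hP'p.map φ).to_sup_of_normal_right' (IsPGroup.of_card (n := 1) (by rw [pow_one, hTc]))
      (fun a ha => mem_normalizer_of_conj (hTn a (hRle ha)))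
  have hTeq : T = R ⊔ T := Subgroup.eq_of_le_of_card_ge le_sup_right
    (hTc.symm ▸ pgroup_perm_card_le S.hp (S.card_Ln x) _ hsupT)
  have hRT : R ≤ T := le_sup_left.trans hTeq.ge
  have hR : R = T := by
    haveI : Fact (Nat.card T).Prime := ⟨hTc.symm ▸ S.hp⟩
    rcases (R.subgroupOf T).eq_bot_or_eq_top_of_prime_card with h | h
    · refine absurd ((Subgroup.eq_bot_iff_forall R).2 fun r hr => ?_) hRne
      have : (⟨r, hRT hr⟩ : T) ∈ R.subgroupOf T := hr
      rw [h, Subgroup.mem_bot] at this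
      exact congrArg Subtype.val this
    · exact le_antisymm hRT (Subgroup.subgroupOf_eq_top.1 h)
  have hcent : ∀ g : stabilizer G x, φ g ∈ T → (∀ a ∈ X, (g : G) * a = a * g) → (g : G) ∈ P := by
    intro g hg hga
    rw [← hR] at hg
    obtain ⟨q, hq, he⟩ := hg
    have hq' : (q : G) ∈ P := hq
    have hk : (q : G)⁻¹ * g ∈ X := S.mem_X_of_comm hXK hXc
      ((S.mem_Ker_iff (q⁻¹ * g)).2 (by rw [map_mul, map_inv, he, inv_mul_cancel]))
      fun a ha => by
        rw [mul_assoc, hga a ha, ← mul_assoc, ← mul_assoc,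
          (show Commute (q : G) a from hcomm _ hq' _ (hXP ha)).inv_left.eq]
    have := P.mul_mem hq' (hXP hk)
    rwa [mul_inv_cancel_left] at this
  refine ⟨X, P, hXK, hXc, hn, hXP, hPx, hPc, fun g hg a ha => ?_, hfree, htr, hcomm⟩
  let g' : stabilizer G x := ⟨g, hg⟩
  let a' : stabilizer G x := ⟨a, hPx ha⟩
  refine hcent (g' * a' * g'⁻¹) ?_ fun b hb => ?_
  · rw [map_mul, map_mul, map_inv]
    exact hTn _ ⟨g', rfl⟩ _ (hR ▸ Subgroup.mem_map_of_mem φ (show a' ∈ P' from ha))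
  · show g * a * g⁻¹ * b = b * (g * a * g⁻¹)
    have hb' : g⁻¹ * b * g⁻¹⁻¹ ∈ X := hn g⁻¹ (inv_smul_eq_self hg) b hb
    calc g * a * g⁻¹ * b = g * (a * (g⁻¹ * b * g⁻¹⁻¹)) * g⁻¹ := by group
      _ = g * ((g⁻¹ * b * g⁻¹⁻¹) * a) * g⁻¹ := by rw [hcomm a ha _ (hXP hb')]
      _ = b * (g * a * g⁻¹) := by group

theorem L1_bot (hPC : ∀ x, S.PC x) {x y : Ω} (hy : y ≠ x) {X : Subgroup G} (hXK : X ≤ S.Ker x)
    (hXc : Nat.card X = p) (hn : ∀ g : G, g • x = x → ∀ a ∈ X, g * a * g⁻¹ ∈ X) {n : G}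
    (hn1 : n ∈ L1 X x y) : n = 1 := by
  by_contra hne
  have hfix : ∀ z, (∀ m ∈ L1 X x y, m • z = z) → z ∈ S.L x y := fun z hz =>
    S.only_fix hy (L1 X x y) inf_le_left (fun g hg m hm => S.L1_normal hn hg hm)
      (fun hle => hne (S.L1_Ker hy hXK hXc hn1 (hle hn1))) hz
  obtain ⟨Y, Q, -, -, -, -, hQy, -, hQn, hQfree, hQtr, -⟩ := S.caseA_pt hPC y
  have hxy : x ≠ y := Ne.symm hy
  have hcent : ∀ q ∈ Q, q • x ∈ S.L x y → ∀ m ∈ L1 X x y, q * m = m * q := by
    intro q hq hqx m hm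
    obtain ⟨⟨hmx, hmy⟩, -⟩ := (S.mem_L1).1 hm
    have h1 : m * q * m⁻¹ ∈ Q := hQn m hmy q hq
    have h2 : (q⁻¹ * (m * q * m⁻¹)) • x = x := by
      rw [mul_smul, mul_smul, mul_smul, inv_smul_eq_self hmx, S.L1_fix hy hXK hXc hm hqx,
        inv_smul_smul]
    have h3 := inv_mul_eq_one.1 (hQfree _ (Q.mul_mem (Q.inv_mem hq) h1) x hxy h2)
    exact mul_inv_eq_iff_eq_mul.1 h3.symm ▸ rfl
  obtain ⟨c, hc, hcx, hcy⟩ : ∃ c ∈ S.L x y, c ≠ x ∧ c ≠ y := by
    by_contra hcon
    push Not at hcon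
    have hsub : S.L x y ⊆ {x, y} := fun c hc => by
      simp only [Finset.mem_insert, Finset.mem_singleton]
      by_cases h : c = x
      · exact .inl h
      · exact .inr (hcon c hc h)
    have := (Finset.card_le_card hsub).trans Finset.card_le_two
    rw [S.cardL x y hxy] at this
    have := S.two_lt
    omega
  obtain ⟨q, hq, hqx⟩ := hQtr x c hxy hcy
  obtain ⟨k, hk, hkc⟩ := S.X_trans hXK hXc hcx hy (S.eqL x y c hxy hc hcx)
  set d := k • y with hd
  have hdx : d ≠ x := smul_ne_of_fix (hXK hk).1 hy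
  have hdy : d ≠ y := by
    intro he
    have := S.eq_one_of_fix hxy (hXK hk).1 he (k := 1)
      (by rw [pow_one]; exact S.pow_eq_one_of_mem hXc hk)
    rw [this, one_smul] at hkc
    exact hcy hkc
  have hdL : d ∈ S.L x y := (S.mem_iff_eq hxy hdx).2 ((hXK hk).2 y hy)
  obtain ⟨q', hq', hq'x⟩ := hQtr x d hxy hdy
  set g := q'⁻¹ * k * q with hg
  have hgx : g • x = y := by
    rw [hg, mul_smul, mul_smul, hqx, hkc, inv_smul_eq_self (hQy hq')]
  have hgy : g • y = x := by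
    rw [hg, mul_smul, mul_smul, show q • y = y from hQy hq, ← hd, ← hq'x, inv_smul_smul]
  have hgc : ∀ m ∈ L1 X x y, g * m = m * g := by
    intro m hm
    have c1 : Commute q m := hcent q hq (hqx.symm ▸ hc) m hm
    have c2 : Commute k m := (((S.mem_L1).1 hm).2 k hk).symm
    have c3 : Commute q' m := hcent q' hq' (hq'x.symm ▸ hdL) m hm
    exact ((c3.inv_left.mul_left c2).mul_left c1).eq
  refine S.asym hy (S.L_eq_of_subset hy hxy fun z hz => hfix z fun m hm => ?_)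
  obtain ⟨w, hw, rfl⟩ : ∃ w ∈ S.L x y, g • w = z := by
    refine ⟨g⁻¹ • z, ?_, smul_inv_smul g z⟩
    have := (S.equivar g x y (g⁻¹ • z) hxy).1
    rw [smul_inv_smul, hgx, hgy] at this
    exact this hz
  rw [smul_smul, ← hgc m hm, mul_smul, S.L1_fix hy hXK hXc hm hw]

theorem big_comm {x y : Ω} (hy : y ≠ x) {P : Subgroup G}
    (htr : ∀ y z, y ≠ x → z ≠ x → ∃ k ∈ P, k • y = z)
    (hfree : ∀ k ∈ P, ∀ y, y ≠ x → k • y = y → k = 1)
    (hPn : ∀ g : G, g • x = x → ∀ a ∈ P, g * a * g⁻¹ ∈ P) {h : G} (hh : h ∈ St2 G x y) {z : Ω}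
    (hz : z ≠ x) : h • z = z ↔ ∀ q ∈ P, q • y = z → h * q = q * h := by
  constructor
  · intro hhz q hq hqy
    have h2 : (q⁻¹ * (h * q * h⁻¹)) • y = y := by
      rw [mul_smul, mul_smul, mul_smul, inv_smul_eq_self hh.2, hqy, hhz, ← hqy, inv_smul_smul]
    have h3 := inv_mul_eq_one.1 (hfree _ (P.mul_mem (P.inv_mem hq) (hPn h hh.1 q hq)) y hy h2)
    exact mul_inv_eq_iff_eq_mul.1 h3.symm
  · intro hc
    obtain ⟨q, hq, hqy⟩ := htr y z hy hz
    rw [← hqy, smul_smul, hc q hq hqy, mul_smul, hh.2]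

theorem dfix_unique (hPC : ∀ x, S.PC x) {x y : Ω} (hy : y ≠ x) {X P : Subgroup G}
    (hXK : X ≤ S.Ker x) (hXc : Nat.card X = p)
    (hn : ∀ g : G, g • x = x → ∀ a ∈ X, g * a * g⁻¹ ∈ X) (hXP : X ≤ P)
    (hPc : Nat.card P = p ^ 2) (hPn : ∀ g : G, g • x = x → ∀ a ∈ P, g * a * g⁻¹ ∈ P)
    (htr : ∀ y z, y ≠ x → z ≠ x → ∃ k ∈ P, k • y = z)
    (hcomm : ∀ k ∈ P, ∀ l ∈ P, k * l = l * k) {h : G} (hh : h ∈ St2 G x y) (hh1 : h ≠ 1) :
    Nat.card (P ⊓ Subgroup.centralizer {h} : Subgroup G) = 1 ∨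
      Nat.card (P ⊓ Subgroup.centralizer {h} : Subgroup G) = p ∧
      ∀ a ∈ X, a ∈ Subgroup.centralizer {h} → a = 1 := by
  have hX : ∀ a ∈ X, a ∈ Subgroup.centralizer {h} → a = 1 := by
    intro a ha hac
    by_contra ha1
    refine hh1 (S.L1_bot hPC hy hXK hXc hn ((S.mem_L1).2 ⟨hh, ?_⟩))
    exact commute_of_gen (hXc.symm ▸ S.hp) ha ha1 (Subgroup.mem_centralizer_singleton_iff.1 hac).symm
  have hd := Subgroup.card_dvd_of_le (inf_le_left : P ⊓ Subgroup.centralizer {h} ≤ P)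
  rw [hPc] at hd
  obtain ⟨i, hi, he⟩ := (Nat.dvd_prime_pow S.hp).1 hd
  interval_cases i
  · exact .inl (by simpa using he)
  · exact .inr ⟨by simpa using he, hX⟩
  · exfalso
    refine hh1 (eq_one_of_forall (Ω := Ω) fun w => ?_)
    have hall : P ⊓ Subgroup.centralizer {h} = P :=
      Subgroup.eq_of_le_of_card_ge inf_le_left (by rw [hPc, he])
    by_cases hw : w = x
    · exact hw ▸ hh.1
    obtain ⟨q, hq, rfl⟩ := htr y w hy hw
    have hq' : q ∈ P ⊓ Subgroup.centralizer {h} := hall.symm ▸ hq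
    rw [smul_smul, (Subgroup.mem_centralizer_singleton_iff.1 hq'.2).symm, mul_smul, hh.2]

set_option maxHeartbeats 800000 in
theorem not_even [Fintype G] {a b : Ω} (hab : a ≠ b)
    (hsemi : ∀ x y : Ω, x ≠ y → ∀ h ∈ St2 G x y, h ≠ 1 → ∀ z, h • z = z → z = x ∨ z = y)
    (hHle : Nat.card (St2 G a b) + 1 ≤ p)
    (hHeq : ∀ x y : Ω, x ≠ y → Nat.card (St2 G x y) = Nat.card (St2 G a b))
    (heven : Even (Nat.card (St2 G a b))) : False := by
  classical
  obtain ⟨t₀, ht₀⟩ := exists_prime_orderOf_dvd_card' 2 (even_iff_two_dvd.1 heven)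
  have hex : ∀ x y : Ω, x ≠ y → ∃ t : G, t ≠ 1 ∧ t * t = 1 ∧ t • x = x ∧ t • y = y := by
    intro x y hxy
    obtain ⟨g, rfl, rfl⟩ := S.trans2 a b x y hab hxy
    have ht1 : (t₀ : G) ≠ 1 := fun e => by
      rw [← Subgroup.orderOf_coe, e, orderOf_one] at ht₀
      omega
    have ht2 : (t₀ : G) * t₀ = 1 := by
      rw [← pow_two, ← ht₀, ← Subgroup.orderOf_coe]
      exact pow_orderOf_eq_one _
    refine ⟨g * t₀ * g⁻¹, fun e => ht1 (conj_eq_one_iff.1 e), ?_, by rw [conj_smul, t₀.2.1],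
      by rw [conj_smul, t₀.2.2]⟩
    calc g * t₀ * g⁻¹ * (g * t₀ * g⁻¹) = g * ((t₀ : G) * t₀) * g⁻¹ := by group
      _ = 1 := by rw [ht2]; group
  choose t ht1 ht2 htx hty using hex
  let A : Finset ((Ω × Ω) × Ω) := (Finset.univ.offDiag ×ˢ Finset.univ).filter
    fun q => q.2 ≠ q.1.1 ∧ q.2 ≠ q.1.2
  let W : Finset ((Ω × Ω) × G) := (Finset.univ.offDiag ×ˢ Finset.univ).filter
    fun q => q.2 • q.1.1 = q.1.2 ∧ q.2 • q.1.2 = q.1.1
  let f : (Ω × Ω) × Ω → (Ω × Ω) × G := fun q =>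
    if h : q.1.1 ≠ q.1.2 then ((q.2, t _ _ h • q.2), t _ _ h) else ((q.2, q.2), 1)
  have hA : A.card = ((p ^ 2 + 1) * p ^ 2) * (p ^ 2 - 1) := by
    have hfib : ∀ q ∈ (Finset.univ : Finset Ω).offDiag,
        (A.filter fun r => r.1 = q).card = p ^ 2 - 1 := by
      rintro ⟨x, y⟩ hq
      have hxy : x ≠ y := (Finset.mem_offDiag.1 hq).2.2
      have e : (A.filter fun r => r.1 = (x, y)).card = (({x, y} : Finset Ω)ᶜ).card := by
        refine Finset.card_bij (fun r _ => r.2) ?_ ?_ ?_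
        · intro r hr
          simp only [A, Finset.mem_filter, Finset.mem_product] at hr
          obtain ⟨⟨-, h1, h2⟩, he⟩ := hr
          rw [he] at h1 h2
          simp [h1, h2]
        · intro r hr r' hr' he
          exact Prod.ext ((Finset.mem_filter.1 hr).2.trans (Finset.mem_filter.1 hr').2.symm) he
        · intro w hw
          simp only [Finset.mem_compl, Finset.mem_insert, Finset.mem_singleton, not_or] at hw
          exact ⟨((x, y), w), by simp [A, hxy, hw.1, hw.2], rfl⟩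
      rw [e, Finset.card_compl, Finset.card_pair hxy, S.hcard]
      omega
    rw [Finset.card_eq_sum_card_fiberwise (f := fun r : (Ω × Ω) × Ω => r.1)
      (t := (Finset.univ : Finset Ω).offDiag) (fun r hr => (Finset.mem_product.1
        (Finset.mem_filter.1 hr).1).1), Finset.sum_congr rfl hfib, Finset.sum_const,
      Finset.offDiag_card, Finset.card_univ, S.hcard, smul_eq_mul]
    congr 1
    rw [← Nat.mul_sub_one, Nat.add_sub_cancel]
  have hW : W.card ≤ ((p ^ 2 + 1) * p ^ 2) * Nat.card (St2 G a b) := by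
    rw [Finset.card_eq_sum_card_fiberwise (f := fun r : (Ω × Ω) × G => r.1)
      (t := (Finset.univ : Finset Ω).offDiag) (fun r hr => (Finset.mem_product.1
        (Finset.mem_filter.1 hr).1).1)]
    refine (Finset.sum_le_card_nsmul _ _ (Nat.card (St2 G a b)) ?_).trans (le_of_eq ?_)
    · rintro ⟨u, v⟩ hq
      have huv : u ≠ v := (Finset.mem_offDiag.1 hq).2.2
      rcases (W.filter fun r => r.1 = (u, v)).eq_empty_or_nonempty with he | ⟨⟨q, g₀⟩, hg₀⟩
      · rw [he]; simp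
      simp only [W, Finset.mem_filter, Finset.mem_product, Finset.mem_offDiag, Finset.mem_univ,
        true_and, and_true] at hg₀
      obtain ⟨⟨-, hg0u, hg0v⟩, rfl⟩ := hg₀
      rw [← hHeq u v huv, Nat.card_eq_fintype_card, Fintype.card_subtype]
      refine Finset.card_le_card_of_injOn (fun r => g₀⁻¹ * r.2) ?_ ?_
      · rintro ⟨q', g⟩ hr
        simp only [W, Finset.coe_filter, Set.mem_setOf_eq, Finset.mem_filter,
          Finset.mem_product, Finset.mem_offDiag, Finset.mem_univ, true_and, and_true] at hr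
        obtain ⟨⟨-, hgu, hgv⟩, rfl⟩ := hr
        simp only [Finset.coe_filter, Finset.mem_univ, true_and, Set.mem_setOf_eq, mem_St2]
        exact ⟨by rw [mul_smul, hgu, ← hg0u, inv_smul_smul],
          by rw [mul_smul, hgv, ← hg0v, inv_smul_smul]⟩
      · rintro ⟨q₁, g₁⟩ h1 ⟨q₂, g₂⟩ h2 he
        simp only [Finset.coe_filter, Set.mem_setOf_eq] at h1 h2
        obtain ⟨-, rfl⟩ := h1
        obtain ⟨-, rfl⟩ := h2
        exact Prod.ext rfl (mul_left_cancel he)
    · rw [smul_eq_mul, Finset.offDiag_card, Finset.card_univ, S.hcard, ← Nat.mul_sub_one,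
        Nat.add_sub_cancel]
  have hAW : A.card ≤ 2 * W.card := by
    refine Finset.card_le_mul_card_image_of_maps_to (f := f) ?_ 2 ?_
    · rintro ⟨⟨x, y⟩, z⟩ hq
      simp only [A, Finset.mem_filter, Finset.mem_product, Finset.mem_offDiag, Finset.mem_univ,
        true_and, and_true] at hq
      obtain ⟨hxy, hzx, hzy⟩ := hq
      simp only [f, dif_pos hxy, W, Finset.mem_filter, Finset.mem_product, Finset.mem_offDiag,
        Finset.mem_univ, true_and, and_true]
      refine ⟨fun e => ?_, by rw [smul_smul, ht2 x y hxy, one_smul]⟩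
      rcases hsemi x y hxy _ ⟨htx x y hxy, hty x y hxy⟩ (ht1 x y hxy) z e.symm with h | h
      · exact hzx h
      · exact hzy h
    · rintro ⟨⟨u, v⟩, g⟩ -
      rcases (A.filter fun r => f r = ((u, v), g)).eq_empty_or_nonempty with
        he | ⟨⟨⟨x, y⟩, z⟩, hr⟩
      · rw [he]; simp
      simp only [A, Finset.mem_filter, Finset.mem_product, Finset.mem_offDiag, Finset.mem_univ,
        true_and, and_true] at hr
      obtain ⟨⟨hxy, -, -⟩, hf⟩ := hr
      simp only [f, dif_pos hxy, Prod.mk.injEq] at hf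
      obtain ⟨⟨rfl, -⟩, rfl⟩ := hf
      refine (Finset.card_le_card (t := {((x, y), z), ((y, x), z)}) ?_).trans Finset.card_le_two
      rintro ⟨⟨x', y'⟩, z'⟩ hr'
      simp only [A, Finset.mem_filter, Finset.mem_product, Finset.mem_offDiag, Finset.mem_univ,
        true_and, and_true] at hr'
      obtain ⟨⟨hxy', -, -⟩, hf'⟩ := hr'
      simp only [f, dif_pos hxy', Prod.mk.injEq] at hf'
      obtain ⟨⟨rfl, -⟩, hg⟩ := hf'
      have h1 := hsemi x y hxy _ ⟨htx x y hxy, hty x y hxy⟩ (ht1 x y hxy) x' (hg ▸ htx x' y' hxy')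
      have h2 := hsemi x y hxy _ ⟨htx x y hxy, hty x y hxy⟩ (ht1 x y hxy) y' (hg ▸ hty x' y' hxy')
      rcases h1 with rfl | rfl <;> rcases h2 with rfl | rfl
      · exact absurd rfl hxy'
      · simp
      · simp
      · exact absurd rfl hxy'
  have h1 : (p ^ 2 + 1) * p ^ 2 * (p ^ 2 - 1) ≤
      (p ^ 2 + 1) * p ^ 2 * (2 * Nat.card (St2 G a b)) := by
    rw [← hA]
    refine hAW.trans ((Nat.mul_le_mul_left 2 hW).trans (le_of_eq ?_))
    ring
  have h2 := Nat.le_of_mul_le_mul_left h1 (Nat.mul_pos (Nat.succ_pos _) (pow_pos S.hp.pos 2))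
  have := S.two_lt
  have h3 : p ^ 2 ≤ 2 * (p - 1) + 1 := by omega
  obtain ⟨k, rfl⟩ : ∃ k, p = k + 3 := ⟨p - 3, by omega⟩
  simp only [Nat.add_sub_cancel, show k + 3 - 1 = k + 2 by omega] at h3
  nlinarith

theorem caseA (hPC : ∀ x, S.PC x) : False := by
  classical
  haveI := Fact.mk S.hp
  haveI : Fintype G := Fintype.ofFinite G
  obtain ⟨a, b, hab⟩ : ∃ a b : Ω, a ≠ b :=
    Fintype.one_lt_card_iff.1 (by rw [S.hcard]; have := S.hp.two_le; nlinarith)
  let Big : Ω → Ω → G → Prop := fun x y h => ∃ z, z ≠ x ∧ z ≠ y ∧ h • z = z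
  by_cases hbig : ∃ x y, ∃ h ∈ St2 G x y, x ≠ y ∧ h ≠ 1 ∧ Big x y h
  · -- lines from fixed points
    let F : Ω → Ω → Finset Ω := fun x y => Finset.univ.filter fun z =>
      ∀ h ∈ St2 G x y, h ≠ 1 → Big x y h → h • z = z
    have hFeq : ∀ (g : G) x y z, z ∈ F x y → g • z ∈ F (g • x) (g • y) := by
      intro g x y z hz
      simp only [F, Finset.mem_filter, Finset.mem_univ, true_and] at hz ⊢
      intro h hh hh1 hB
      obtain ⟨w, hwx, hwy, hw⟩ := hB
      have := hz (g⁻¹ * h * g) ⟨show _ = x by rw [mul_smul, mul_smul, hh.1, inv_smul_smul],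
          show _ = y by rw [mul_smul, mul_smul, hh.2, inv_smul_smul]⟩
        (fun e => hh1 (by
          have := congrArg (fun u => g * u * g⁻¹) e
          simpa [mul_assoc] using this))
        ⟨g⁻¹ • w, fun e => hwx (by rw [← e, smul_inv_smul]), fun e => hwy (by rw [← e, smul_inv_smul]),
          by rw [mul_smul, mul_smul, smul_inv_smul, hw]⟩
      rw [mul_smul, mul_smul, inv_smul_eq_iff] at this
      exact this
    -- every pair has a big element
    have hall : ∀ x y : Ω, x ≠ y → ∃ h ∈ St2 G x y, h ≠ 1 ∧ Big x y h := by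
      intro x y hxy
      obtain ⟨u, v, h, hh, huv, hh1, w, hwu, hwv, hw⟩ := hbig
      obtain ⟨g, rfl, rfl⟩ := S.trans2 u v x y huv hxy
      refine ⟨g * h * g⁻¹, ⟨show _ = g • u by rw [conj_smul, hh.1],
        show _ = g • v by rw [conj_smul, hh.2]⟩, fun e => hh1 (conj_eq_one_iff.1 e), g • w,
        fun e => hwu (smul_left_cancel g e), fun e => hwv (smul_left_cancel g e),
        by rw [conj_smul, hw]⟩
    have key : ∀ x y : Ω, x ≠ y → ∃ D : Subgroup G, D ≤ stabilizer G x ∧ Nat.card D = p ∧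
        (∀ d ∈ D, ∀ e ∈ D, d * e = e * d) ∧ (∀ d ∈ D, d • y = y → d = 1) ∧
        ∀ z, z ∈ F x y ↔ z = x ∨ ∃ d ∈ D, d • y = z := by
      intro x y hxy
      have hy : y ≠ x := Ne.symm hxy
      obtain ⟨X, P, hXK, hXc, hn, hXP, hPx, hPc, hPn, hfree, htr, hcomm⟩ := S.caseA_pt hPC x
      obtain ⟨h₀, hh₀, hh₀1, w, hwx, hwy, hw⟩ := hall x y hxy
      set D : Subgroup G := P ⊓ Subgroup.centralizer {h₀} with hD
      have hDbig : ∀ h ∈ St2 G x y, h ≠ 1 → ∀ w, w ≠ x → w ≠ y → h • w = w →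
          Nat.card (P ⊓ Subgroup.centralizer {h} : Subgroup G) = p ∧
            ∀ a ∈ X, a ∈ Subgroup.centralizer {h} → a = 1 := by
        intro h hh hh1 w hwx hwy hw
        rcases S.dfix_unique hPC hy hXK hXc hn hXP hPc hPn htr hcomm hh hh1 with h1 | h1
        · exfalso
          obtain ⟨q, hq, hqy⟩ := htr y w hy hwx
          have hq' : q ∈ P ⊓ Subgroup.centralizer {h} := ⟨hq, Subgroup.mem_centralizer_singleton_iff.2
            ((S.big_comm hy htr hfree hPn hh hwx).1 hw q hq hqy).symm⟩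
          rw [Subgroup.eq_bot_of_card_eq _ h1, Subgroup.mem_bot] at hq'
          exact hwy (by rw [← hqy, hq', one_smul])
        · exact h1
      obtain ⟨hDc, hDX⟩ := hDbig h₀ hh₀ hh₀1 w hwx hwy hw
      have hsame : ∀ h ∈ St2 G x y, h ≠ 1 → Big x y h → ∀ d ∈ D, h * d = d * h := by
        rintro h hh hh1 ⟨v, hvx, hvy, hv⟩ d hd
        obtain ⟨hEc, hEX⟩ := hDbig h hh hh1 v hvx hvy hv
        set E : Subgroup G := P ⊓ Subgroup.centralizer {h} with hE
        by_contra hne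
        have hinter : D ⊓ E = ⊥ := by
          refine (Subgroup.eq_bot_iff_forall _).2 fun u hu => ?_
          by_contra hu1
          exact hne (commute_of_gen (hDc.symm ▸ S.hp) hu.1 hu1
            (Subgroup.mem_centralizer_singleton_iff.1 hu.2.2).symm d hd)
        have hbij : Function.Bijective fun de : D × E =>
            (⟨de.1 * de.2, P.mul_mem de.1.2.1 de.2.2.1⟩ : P) := by
          rw [Nat.bijective_iff_injective_and_card, Nat.card_prod, hDc, hEc, hPc, pow_two]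
          refine ⟨fun u v huv => ?_, rfl⟩
          have huv' : (u.1 : G) * u.2 = v.1 * v.2 := congrArg Subtype.val huv
          have hm : (v.1 : G)⁻¹ * u.1 = v.2 * (u.2 : G)⁻¹ := by
            rw [eq_mul_inv_iff_mul_eq, mul_assoc, huv', inv_mul_cancel_left]
          have h1 : (v.1 : G)⁻¹ * u.1 ∈ D ⊓ E :=
            ⟨D.mul_mem (D.inv_mem v.1.2) u.1.2, hm ▸ E.mul_mem v.2.2 (E.inv_mem u.2.2)⟩
          rw [hinter, Subgroup.mem_bot, inv_mul_eq_one] at h1
          refine Prod.ext (Subtype.ext h1.symm) (Subtype.ext ?_)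
          rw [h1] at huv'
          exact mul_left_cancel huv'
        haveI : Nontrivial X := Finite.one_lt_card_iff_nontrivial.1 (hXc ▸ S.hp.one_lt)
        obtain ⟨⟨x₀, hx₀⟩, hx₀1⟩ := exists_ne (1 : X)
        obtain ⟨⟨d₁, e₁⟩, hde⟩ := hbij.2 ⟨x₀, hXP hx₀⟩
        have hde' : (d₁ : G) * e₁ = x₀ := congrArg Subtype.val hde
        obtain ⟨i, hi⟩ := exists_exp (hXc.symm ▸ S.hp) (hn h₀ hh₀.1)
        have hcd : h₀ * d₁ = d₁ * h₀ := (Subgroup.mem_centralizer_singleton_iff.1 d₁.2.2).symm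
        have hh0h : h₀ * h = h * h₀ := S.St2_comm_of_PC hPC hy hh₀ hh
        have heE : h₀ * (e₁ : G) * h₀⁻¹ ∈ E := by
          refine ⟨hPn h₀ hh₀.1 _ e₁.2.1, Subgroup.mem_centralizer_singleton_iff.2 ?_⟩
          have c1 : Commute h₀ h := hh0h
          have c2 : Commute (e₁ : G) h := Subgroup.mem_centralizer_singleton_iff.1 e₁.2.2
          exact ((c1.mul_left c2).mul_left c1.inv_left).eq
        have hx' : h₀ * x₀ * h₀⁻¹ = (d₁ : G) * (h₀ * e₁ * h₀⁻¹) := by
          rw [← hde', ← mul_assoc, hcd]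
          group
        rw [hi x₀ hx₀, ← hde', (show Commute (d₁ : G) e₁ from hcomm _ d₁.2.1 _ e₁.2.1).mul_zpow] at hx'
        have hu := hbij.1 (a₁ := (⟨(d₁ : G) ^ i, D.zpow_mem d₁.2 i⟩, ⟨(e₁ : G) ^ i, E.zpow_mem e₁.2 i⟩))
          (a₂ := (d₁, ⟨h₀ * e₁ * h₀⁻¹, heE⟩)) (Subtype.ext hx')
        have hd1 : (d₁ : G) ^ i = d₁ := congrArg (fun u : D × E => (u.1 : G)) hu
        have hd1ne : (d₁ : G) ≠ 1 := by
          intro e
          rw [e, one_mul] at hde'
          exact hx₀1 (Subtype.ext (hEX x₀ hx₀ (hde' ▸ e₁.2.2)))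
        have hord : orderOf (d₁ : G) = p :=
          orderOf_eq_prime (S.pow_eq_one_of_mem hDc d₁.2) hd1ne
        have hpi : (p : ℤ) ∣ i - 1 := by
          rw [← hord, orderOf_dvd_iff_zpow_eq_one, zpow_sub_one, hd1, mul_inv_cancel]
        have hxi : x₀ ^ i = x₀ := by
          obtain ⟨m, hm⟩ := hpi
          rw [show i = p * m + 1 by omega, zpow_add_one, zpow_mul, zpow_natCast,
            S.pow_eq_one_of_mem hXc hx₀, one_zpow, one_mul]
        refine hx₀1 (Subtype.ext (hDX x₀ hx₀ (Subgroup.mem_centralizer_singleton_iff.2 ?_)))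
        exact (mul_inv_eq_iff_eq_mul.1 ((hi x₀ hx₀).trans hxi)).symm
      refine ⟨D, inf_le_left.trans hPx, hDc, fun d hd e he => hcomm d hd.1 e he.1,
        fun d hd => hfree d hd.1 y hy, fun z => ?_⟩
      simp only [F, Finset.mem_filter, Finset.mem_univ, true_and]
      constructor
      · intro hz
        rw [or_iff_not_imp_left]
        intro hzx
        obtain ⟨q, hq, hqy⟩ := htr y z hy hzx
        exact ⟨q, ⟨hq, Subgroup.mem_centralizer_singleton_iff.2
          ((S.big_comm hy htr hfree hPn hh₀ hzx).1 (hz h₀ hh₀ hh₀1 ⟨w, hwx, hwy, hw⟩) q hq hqy).symm⟩,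
          hqy⟩
      · rintro (rfl | ⟨d, hd, rfl⟩) h hh hh1 hB
        · exact hh.1
        · rw [smul_smul, hsame h hh hh1 hB d hd, mul_smul, hh.2]
    refine no_lines S.hp.two_le S.hcard F (fun x y hxy => ?_) (fun x y hxy => ?_) (fun x y hxy => ?_)
      (fun x y z hxy hz hzx => ?_)
    · obtain ⟨D, -, -, -, -, hF⟩ := key x y hxy
      exact ⟨(hF x).2 (.inl rfl), (hF y).2 (.inr ⟨1, D.one_mem, one_smul G y⟩)⟩
    · obtain ⟨D, hDx, hDc, -, hD1, hF⟩ := key x y hxy
      have he : F x y = insert x ((Finset.univ.filter fun d : G => d ∈ D).image (· • y)) := by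
        ext z
        simp only [hF, Finset.mem_insert, Finset.mem_image, Finset.mem_filter, Finset.mem_univ,
          true_and]
      rw [he, Finset.card_insert_of_notMem, Finset.card_image_of_injOn, ← Fintype.card_subtype,
        ← Nat.card_eq_fintype_card]
      · exact congrArg (· + 1) hDc
      · intro d hd e he hde
        simp only [Finset.coe_filter, Finset.mem_univ, true_and, Set.mem_setOf_eq] at hd he
        refine (inv_mul_eq_one.1 (hD1 _ (D.mul_mem (D.inv_mem he) hd) ?_)).symm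
        rw [mul_smul, show d • y = e • y from hde, inv_smul_smul]
      · simp only [Finset.mem_image, Finset.mem_filter, Finset.mem_univ, true_and, not_exists,
          not_and]
        exact fun d hd => smul_ne_of_fix (hDx hd) (Ne.symm hxy)
    · ext z
      simp only [F, Big, Finset.mem_filter, Finset.mem_univ, true_and, St2_comm x y]
      constructor <;> intro h g hg hg1 ⟨u, h1, h2, h3⟩ <;> exact h g hg hg1 ⟨u, h2, h1, h3⟩
    · obtain ⟨D, hDx, -, hDcomm, -, hF⟩ := key x y hxy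
      rcases (hF z).1 hz with h | ⟨d, hd, rfl⟩
      · exact absurd h hzx
      have hmap : ∀ e ∈ D, ∀ w ∈ F x y, e • w ∈ F x y := by
        intro e he w hw
        rcases (hF w).1 hw with rfl | ⟨f, hf, rfl⟩
        · exact (hF _).2 (.inl (hDx he))
        · exact (hF _).2 (.inr ⟨e * f, D.mul_mem he hf, mul_smul e f y⟩)
      ext w
      constructor
      · intro hw
        have := hFeq d⁻¹ x (d • y) w hw
        rw [inv_smul_smul, inv_smul_eq_self (hDx hd)] at this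
        have := hmap d hd _ this
        rwa [smul_inv_smul] at this
      · intro hw
        have := hFeq d x y _ (hmap d⁻¹ (D.inv_mem hd) w hw)
        rwa [smul_inv_smul, show d • x = x from hDx hd] at this
  · push Not at hbig
    have hsemi : ∀ x y : Ω, x ≠ y → ∀ h ∈ St2 G x y, h ≠ 1 → ∀ z, h • z = z → z = x ∨ z = y := by
      intro x y hxy h hh hh1 z hz
      by_contra hcon
      rw [not_or] at hcon
      exact hbig x y h hh hxy hh1 ⟨z, hcon.1, hcon.2, hz⟩
      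
    obtain ⟨X, P, hXK, hXc, hn, -⟩ := S.caseA_pt hPC a
    haveI : Nontrivial X := Finite.one_lt_card_iff_nontrivial.1 (hXc ▸ S.hp.one_lt)
    obtain ⟨⟨x₀, hx₀⟩, hx₀1⟩ := exists_ne (1 : X)
    have hinj : ∀ h ∈ St2 G a b, h * x₀ * h⁻¹ = x₀ → h = 1 := fun h hh he =>
      S.L1_bot hPC (Ne.symm hab) hXK hXc hn ((S.mem_L1).2 ⟨hh,
        commute_of_gen (hXc.symm ▸ S.hp) hx₀ (fun e => hx₀1 (Subtype.ext e))
          (mul_inv_eq_iff_eq_mul.1 he)⟩)
    have hHle : Nat.card (St2 G a b) + 1 ≤ p := by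
      let e : Option (St2 G a b) → X := fun o => o.elim 1 fun h =>
        ⟨h * x₀ * (h : G)⁻¹, hn h h.2.1 x₀ hx₀⟩
      have hne : ∀ h : St2 G a b, e (some h) ≠ 1 := fun h he =>
        hx₀1 (Subtype.ext (conj_eq_one_iff.1 (congrArg Subtype.val he)))
      have hei : Function.Injective e := by
        rintro (_ | u) (_ | v) huv
        · rfl
        · exact absurd huv.symm (hne v)
        · exact absurd huv (hne u)
        · have h' : (u : G) * x₀ * (u : G)⁻¹ = v * x₀ * (v : G)⁻¹ := congrArg Subtype.val huv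
          have := hinj _ ((St2 G a b).mul_mem ((St2 G a b).inv_mem v.2) u.2) (by
            calc (v : G)⁻¹ * u * x₀ * ((v : G)⁻¹ * u)⁻¹
                = (v : G)⁻¹ * (u * x₀ * (u : G)⁻¹) * v := by group
              _ = x₀ := by rw [h']; group)
          exact congrArg some (Subtype.ext (inv_mul_eq_one.1 this).symm)
      have := Nat.card_le_card_of_injective e hei
      rwa [Finite.card_option, hXc] at this
    have hHeq : ∀ x y : Ω, x ≠ y → Nat.card (St2 G x y) = Nat.card (St2 G a b) := by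
      intro x y hxy
      obtain ⟨g, rfl, rfl⟩ := S.trans2 a b x y hab hxy
      exact card_St2_smul g a b
    rcases Nat.even_or_odd (Nat.card (St2 G a b)) with heven | hodd
    · exact S.not_even hab hsemi hHle hHeq heven
    · have hGx : Odd (Nat.card (stabilizer G a)) := by
        rw [S.card_stabilizer hab]
        exact (S.odd.pow).mul hodd
      have hG : Nat.card G = (p ^ 2 + 1) * Nat.card (stabilizer G a) := by
        haveI : IsPretransitive G Ω := ⟨fun u v => by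
          by_cases huv : u = v
          · exact ⟨1, by rw [one_smul, huv]⟩
          · obtain ⟨g, hg, -⟩ := S.trans2 u v v u huv (Ne.symm huv)
            exact ⟨g, hg⟩⟩
        rw [← (stabilizer G a).index_mul_card, index_stabilizer_of_transitive,
          Nat.card_eq_fintype_card (α := Ω), S.hcard]
      obtain ⟨k, hk⟩ := S.odd
      obtain ⟨N, hN, hNi⟩ := exists_index_two (G := G)
        (m := (2 * k * k + 2 * k + 1) * Nat.card (stabilizer G a))
        (Odd.mul ⟨k * k + k, by ring⟩ hGx) (by rw [hG, hk]; ring)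
      haveI := hN
      have hstab : ∀ u : Ω, stabilizer G u ≤ N := by
        intro u g hg
        have hodd' : Odd (Nat.card (stabilizer G u)) := by
          obtain ⟨v, hv⟩ : ∃ v, v ≠ u := Fintype.exists_ne_of_one_lt_card
            (by rw [S.hcard]; have := S.hp.two_le; nlinarith) u
          rw [S.card_stabilizer (Ne.symm hv), hHeq u v (Ne.symm hv)]
          exact (S.odd.pow).mul hodd
        rw [← QuotientGroup.eq_one_iff]
        have h1 : orderOf (g : G ⧸ N) ∣ Nat.card (stabilizer G u) :=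
          (orderOf_map_dvd (QuotientGroup.mk' N) g).trans (Subgroup.orderOf_dvd_natCard _ hg)
        have h2 : orderOf (g : G ⧸ N) ∣ 2 := by
          rw [← hNi, Subgroup.index_eq_card]
          exact orderOf_dvd_natCard _
        rw [← orderOf_eq_one_iff]
        exact Nat.dvd_one.1 ((Nat.coprime_two_right.2 hodd').gcd_eq_one ▸ Nat.dvd_gcd h1 h2)
      have htop : N = ⊤ := by
        refine (Subgroup.eq_top_iff' N).2 fun g => ?_
        by_cases hga : g • a = a
        · exact hstab a hga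
        obtain ⟨w, -, hw⟩ := Finset.exists_mem_notMem_of_card_lt_card
          (s := ({a, g • a} : Finset Ω)) (t := Finset.univ)
          (by rw [Finset.card_univ, S.hcard]; have := Finset.card_le_two (a := a) (b := g • a)
              have := S.two_lt; nlinarith)
        simp only [Finset.mem_insert, Finset.mem_singleton, not_or] at hw
        obtain ⟨m, hm, hma⟩ := S.trans2 w a w (g • a) hw.1 hw.2
        have h1 : m⁻¹ * g ∈ N := hstab a (show _ = a by rw [mul_smul, ← hma, inv_smul_smul])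
        have := N.mul_mem (hstab w hm) h1
        rwa [mul_inv_cancel_left] at this
      rw [htop, Subgroup.index_top] at hNi
      omega

end Sys

end CfsgLib.DoublyPrim
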