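import Cfsg.Agent.Lib.DoublyPrim.CaseA

/-!
The case where the kernel on lines acts doubly transitively on each line: counting fixed points.
-/

set_option autoImplicit false
set_option linter.unusedSectionVars false
set_option linter.style.haveILetI false

namespace CfsgLib.DoublyPrim

open MulAction
open scoped Pointwise

theorem not_dvd_order_of_fix {β : Type*} [Finite β] {p : ℕ} (hp : p.Prime)
    (hβ : Nat.card β = p) {h : Equiv.Perm β} {i : β} (hi : h i = i) : ¬ p ∣ orderOf h := by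
  intro hd
  haveI := Fact.mk hp
  set h' := h ^ (orderOf h / p)
  have hpos : 0 < orderOf h := orderOf_pos h
  have ho : orderOf h' = p := by
    rw [orderOf_pow_of_dvd (Nat.div_pos (Nat.le_of_dvd hpos hd) hp.pos).ne'
      (Nat.div_dvd_of_dvd hd), Nat.div_div_self hd hpos.ne']
  have hfix : ∀ n : Subgroup.zpowers h', (n : Equiv.Perm β) i = i := by
    rintro ⟨n, hn⟩
    obtain ⟨k, rfl⟩ := Subgroup.mem_zpowers_iff.1 hn
    refine Equiv.Perm.zpow_apply_eq_self_of_apply_eq_self ?_ k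
    show (h ^ (orderOf h / p)) i = i
    exact Equiv.Perm.pow_apply_eq_self_of_apply_eq_self hi _
  have hpg : IsPGroup p (Subgroup.zpowers h') := IsPGroup.of_card (n := 1)
    (by rw [pow_one, Nat.card_zpowers, ho])
  have hmod := hpg.card_modEq_card_fixedPoints β
  rw [hβ] at hmod
  have hdd : p ∣ Nat.card (fixedPoints (Subgroup.zpowers h') β) :=
    Nat.modEq_zero_iff_dvd.1 (hmod.symm.trans (Nat.modEq_zero_iff_dvd.2 dvd_rfl))
  have hle : p ≤ Nat.card (fixedPoints (Subgroup.zpowers h') β) :=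
    Nat.le_of_dvd (@Nat.card_pos _ ⟨⟨i, fun n => hfix n⟩⟩ _) hdd
  have huniv : fixedPoints (Subgroup.zpowers h') β = Set.univ :=
    Set.eq_of_subset_of_ncard_le (Set.subset_univ _)
      (by rw [Set.ncard_univ, hβ, ← Nat.card_coe_set_eq]; exact hle) Set.finite_univ
  have h1 : h' = 1 := Equiv.ext fun j =>
    (huniv ▸ Set.mem_univ j : j ∈ fixedPoints (Subgroup.zpowers h') β) ⟨h', Subgroup.mem_zpowers h'⟩
  rw [h1, orderOf_one] at ho
  exact hp.one_lt.ne ho

theorem card_fixed_mod_two {α : Type*} [DecidableEq α] (s : Finset α) (f : α → α)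
    (hf : ∀ a ∈ s, f a ∈ s) (hff : ∀ a ∈ s, f (f a) = a) :
    (s.card : ZMod 2) = ((s.filter fun a => f a = a).card : ZMod 2) := by
  rw [← Finset.card_filter_add_card_filter_not (s := s) (p := fun a => f a = a), Nat.cast_add]
  have h0 : ((s.filter fun a => ¬ f a = a).card : ZMod 2) = 0 := by
    rw [Finset.card_eq_sum_ones, Nat.cast_sum]
    refine Finset.sum_involution (fun a _ => f a) (fun a _ => by decide) ?_ ?_ ?_
    · intro a ha _
      exact (Finset.mem_filter.1 ha).2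
    · intro a ha
      simp only [Finset.mem_filter] at ha ⊢
      exact ⟨hf a ha.1, fun e => ha.2 (by rw [hff a ha.1] at e; exact e.symm)⟩
    · intro a ha
      exact hff a (Finset.mem_filter.1 ha).1
  rw [h0, add_zero]

theorem sr_of_normal_sr {β : Type*} [Finite β] {p : ℕ} (hp : p.Prime) (hβ : Nat.card β = p)
    {H N : Subgroup (Equiv.Perm β)} (htr : ∀ i j : β, ∃ h ∈ H, h i = j) (hN : N ≤ H)
    (hnorm : ∀ h ∈ H, ∀ n ∈ N, h * n * h⁻¹ ∈ N) (hne : N ≠ ⊥) (hsr : SRG N) : SRG H := by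
  haveI := Fact.mk hp
  have hq : (Nat.card β).Prime := hβ ▸ hp
  have htN := normal_transitive hq htr N hnorm hne
  obtain ⟨T, hTN, hTn, hTc⟩ := normal_prime_of_sr hq htN hsr
  refine sr_of_normal_prime hq htr T (fun h hh t ht => ?_) hTc
  have hTp : IsPGroup p T := IsPGroup.of_card (n := 1) (by rw [pow_one, hTc, hβ])
  set T' : Subgroup (Equiv.Perm β) := T.map (MulAut.conj h).toMonoidHom
  have hle : T' ≤ Subgroup.normalizer (T : Set (Equiv.Perm β)) := by
    rintro _ ⟨u, hu, rfl⟩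
    exact mem_normalizer_of_conj (hTn _ (hnorm h hh u (hTN hu)))
  have hsup : IsPGroup p (T' ⊔ T : Subgroup (Equiv.Perm β)) :=
    (hTp.map _).to_sup_of_normal_right' hTp hle
  have he : T = T' ⊔ T := Subgroup.eq_of_le_of_card_ge le_sup_right
    (by rw [hTc, hβ]; exact pgroup_perm_card_le hp hβ _ hsup)
  exact (le_sup_left.trans he.ge) ⟨t, ht, rfl⟩

variable {G Ω : Type*} [Group G] [Finite G] [Fintype Ω] [DecidableEq Ω] [MulAction G Ω]
  [FaithfulSMul G Ω] {p : ℕ} (S : Sys G Ω p)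

/-- Number of fixed points of an element on a line without the point `x`. -/
def fixNum (x : Ω) (ℓ : Finset Ω) (z : G) : ℕ := ((ℓ.erase x).filter fun w => z • w = w).card

namespace Sys

include S

theorem mem_erase_iff {x y w : Ω} (hy : y ≠ x) :
    w ∈ (S.L x y).erase x ↔ w ≠ x ∧ S.L x w = S.L x y := by
  rw [Finset.mem_erase]
  exact and_congr_right fun hw => S.mem_iff_eq (Ne.symm hy) hw

/-- The kernel acts faithfully on each line. -/
theorem faithful_line {x y : Ω} (hy : y ≠ x) {k : G} (hk : k ∈ S.Ker x)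
    (h : ∀ z ∈ S.L x y, k • z = z) : k = 1 := by
  haveI := Fact.mk S.hp
  let N : Subgroup G := S.Ker x ⊓ fixingSubgroup G (↑(S.L x y) : Set Ω)
  have hNmem : ∀ n, n ∈ N ↔ n ∈ S.Ker x ∧ ∀ z ∈ S.L x y, n • z = z := fun n => by
    simp only [N, Subgroup.mem_inf, mem_fixingSubgroup_iff, Finset.mem_coe]
  have hndvd : ¬ p ∣ Nat.card N := by
    intro hd
    obtain ⟨n, hn⟩ := exists_prime_orderOf_dvd_card' p hd
    have h1 : (n : G) = 1 := S.eq_one_of_fix (Ne.symm hy) ((hNmem n).1 n.2).1.1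
      (((hNmem n).1 n.2).2 y (S.mem x y (Ne.symm hy)).2) (k := 1)
      (by rw [pow_one, ← hn, ← Subgroup.orderOf_coe]; exact pow_orderOf_eq_one _)
    rw [← Subgroup.orderOf_coe, h1, orderOf_one] at hn
    exact S.hp.one_lt.ne hn
  obtain ⟨P, hPx, hPc, -, htr, hcomm⟩ := S.exists_P x
  have hXc := S.exists_X x hPx hPc htr hcomm
  set X : Subgroup G := P ⊓ S.Ker x
  have hXK : X ≤ S.Ker x := inf_le_right
  have hnormN : ∀ a ∈ S.Ker x, ∀ n ∈ N, a * n * a⁻¹ ∈ N := by
    intro a ha n hn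
    rw [hNmem] at hn ⊢
    refine ⟨(S.Ker x).mul_mem ((S.Ker x).mul_mem ha hn.1) ((S.Ker x).inv_mem ha), fun z hz => ?_⟩
    have hai := (S.Ker x).inv_mem ha
    have hz' : a⁻¹ • z ∈ S.L x y := by
      by_cases hzx : z = x
      · subst hzx
        rw [hai.1]
        exact (S.mem z y (Ne.symm hy)).1
      · exact (S.mem_iff_eq (Ne.symm hy) (smul_ne_of_fix hai.1 hzx)).2
          ((hai.2 z hzx).trans (S.eqL x y z (Ne.symm hy) hz hzx))
    rw [mul_smul, mul_smul, hn.2 _ hz', smul_inv_smul]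
  refine eq_one_of_forall (Ω := Ω) fun w => ?_
  by_cases hw : w = x
  · exact hw ▸ hk.1
  let E : Subgroup G :=
    { carrier := {a | a ∈ X ∧ ∃ n ∈ N, a • w = n • w}
      one_mem' := ⟨X.one_mem, 1, N.one_mem, rfl⟩
      mul_mem' := by
        rintro a b ⟨ha, n, hn, e⟩ ⟨hb, m, hm, e'⟩
        refine ⟨X.mul_mem ha hb, a * m * a⁻¹ * n, N.mul_mem (hnormN a (hXK ha) m hm) hn, ?_⟩
        rw [mul_smul, e', mul_smul (a * m * a⁻¹), ← e, conj_smul]
      inv_mem' := by
        rintro a ⟨ha, n, hn, e⟩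
        refine ⟨X.inv_mem ha, a⁻¹ * n⁻¹ * a⁻¹⁻¹,
          hnormN a⁻¹ ((S.Ker x).inv_mem (hXK ha)) _ (N.inv_mem hn), ?_⟩
        rw [inv_inv, mul_smul, mul_smul, e, inv_smul_smul] }
  have hEX : E ≤ X := fun a ha => ha.1
  have hd := Subgroup.card_dvd_of_le hEX
  rw [hXc] at hd
  obtain ⟨a, ha, hak⟩ := S.X_trans hXK hXc hw (smul_ne_of_fix hk.1 hw) (hk.2 w hw).symm
  rcases S.hp.eq_one_or_self_of_dvd _ hd with h1 | h1
  · have hm : a ∈ E := ⟨ha, k, (hNmem k).2 ⟨hk, h⟩, hak⟩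
    rw [Subgroup.eq_bot_of_card_eq E h1, Subgroup.mem_bot] at hm
    rw [← hak, hm, one_smul]
  · exfalso
    have hEq : E = X := Subgroup.eq_of_le_of_card_ge hEX (by rw [h1, hXc])
    have he : orbit N w = ↑((S.L x w).erase x) := by
      ext u
      simp only [Finset.mem_coe, S.mem_erase_iff hw]
      constructor
      · rintro ⟨⟨n, hn⟩, rfl⟩
        exact ⟨smul_ne_of_fix hn.1.1 hw, hn.1.2 w hw⟩
      · rintro ⟨hu, hue⟩
        obtain ⟨b, hb, hbu⟩ := S.X_trans hXK hXc hw hu hue.symm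
        obtain ⟨-, n, hn, hbn⟩ : b ∈ E := hEq.symm ▸ hb
        exact ⟨⟨n, hn⟩, hbn.symm.trans hbu⟩
    have hc := card_orbit_subgroup N w
    rw [Nat.card_coe_set_eq, he, Set.ncard_coe_finset, S.card_erase (Ne.symm hw)] at hc
    exact hndvd (hc ▸ dvd_mul_right p _)

/-- A subgroup of order `p`, normal in the kernel, contains every element of order `p` of it. -/
theorem mem_of_normal {x : Ω} {X : Subgroup G} (hXK : X ≤ S.Ker x) (hXc : Nat.card X = p)
    (hn : ∀ k ∈ S.Ker x, ∀ a ∈ X, k * a * k⁻¹ ∈ X) {b : G} (hb : b ∈ S.Ker x) (hbp : b ^ p = 1) :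
    b ∈ X := by
  haveI := Fact.mk S.hp
  have hY : IsPGroup p (Subgroup.zpowers b) := by
    intro g
    refine ⟨1, Subtype.ext ?_⟩
    obtain ⟨j, hj⟩ := Subgroup.mem_zpowers_iff.1 g.2
    show (g : G) ^ p ^ 1 = 1
    rw [← hj, pow_one, ← zpow_natCast, ← zpow_mul, mul_comm, zpow_mul, zpow_natCast, hbp, one_zpow]
  have hXp : IsPGroup p X := IsPGroup.of_card (n := 1) (by rw [pow_one, hXc])
  have hsup : IsPGroup p (Subgroup.zpowers b ⊔ X : Subgroup G) := hY.to_sup_of_normal_right' hXp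
    (Subgroup.zpowers_le.2 (mem_normalizer_of_conj (hn b hb)))
  obtain ⟨i, hi⟩ := IsPGroup.iff_card.1 hsup
  have hd : p ^ i ∣ Nat.card (S.Ker x) :=
    hi ▸ Subgroup.card_dvd_of_le (sup_le (Subgroup.zpowers_le.2 hb) hXK)
  have hi1 : i ≤ 1 := by
    by_contra hi1
    exact S.not_sq_dvd_Ker x ((pow_dvd_pow p (by omega : 2 ≤ i)).trans hd)
  have he : X = Subgroup.zpowers b ⊔ X := Subgroup.eq_of_le_of_card_ge le_sup_right (by
    rw [hi, hXc]
    exact (Nat.pow_le_pow_right S.hp.pos hi1).trans (pow_one p).le)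
  exact (le_sup_left.trans he.ge) (Subgroup.mem_zpowers b)

/-- The points of a line other than `x`. -/
def Pt (x y : Ω) : Type _ := {w : Ω // w ≠ x ∧ S.L x w = S.L x y}

instance (x y : Ω) : Finite (S.Pt x y) := Subtype.finite

instance ptAction (x y : Ω) : MulAction (S.Ker x) (S.Pt x y) where
  smul k w := ⟨(k : G) • w.1, smul_ne_of_fix k.2.1 w.2.1, (k.2.2 w.1 w.2.1).trans w.2.2⟩
  one_smul w := Subtype.ext (one_smul G w.1)
  mul_smul k l w := Subtype.ext (mul_smul (k : G) (l : G) w.1)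

theorem pt_smul_val {x y : Ω} (k : S.Ker x) (w : S.Pt x y) : (k • w).1 = (k : G) • w.1 := rfl

theorem card_Pt {x y : Ω} (hy : y ≠ x) : Nat.card (S.Pt x y) = p := by
  rw [show Nat.card (S.Pt x y) = Nat.card ((S.L x y).erase x) from
    Nat.card_congr (Equiv.subtypeEquivRight fun w => (S.mem_erase_iff hy).symm),
    Nat.card_eq_fintype_card, Fintype.card_coe, S.card_erase (Ne.symm hy)]

theorem card_fixedBy {x y : Ω} (hy : y ≠ x) (z : S.Ker x) :
    Nat.card (fixedBy (S.Pt x y) z) = fixNum x (S.L x y) (z : G) := by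
  rw [fixNum, ← Fintype.card_coe, ← Nat.card_eq_fintype_card]
  exact Nat.card_congr
    ⟨fun w => ⟨w.1.1, Finset.mem_filter.2 ⟨(S.mem_erase_iff hy).2 w.1.2, congrArg Subtype.val w.2⟩⟩,
     fun w => ⟨⟨w.1, (S.mem_erase_iff hy).1 (Finset.mem_filter.1 w.2).1⟩,
       Subtype.ext (Finset.mem_filter.1 w.2).2⟩, fun _ => rfl, fun _ => rfl⟩

theorem two_trans {x : Ω} (hPC : ¬ S.PC x) {u v w : Ω} (hu : u ≠ x) (hv : v ≠ x) (hw : w ≠ x)
    (hvu : v ≠ u) (hwu : w ≠ u) (ev : S.L x v = S.L x u) (ew : S.L x w = S.L x u) :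
    ∃ k ∈ S.Ker x, k • u = u ∧ k • v = w := by
  haveI := Fact.mk S.hp
  set ψ := MulAction.toPermHom (S.Ker x) (S.Pt x u)
  have hq : (Nat.card (S.Pt x u)).Prime := by rw [S.card_Pt hu]; exact S.hp
  have htr : ∀ i j : S.Pt x u, ∃ h ∈ ψ.range, h i = j := by
    intro i j
    obtain ⟨k, hk, hki⟩ := S.exists_Ker_trans i.2.1 j.2.1 (i.2.2.trans j.2.2.symm)
    exact ⟨ψ ⟨k, hk⟩, ⟨_, rfl⟩, Subtype.ext hki⟩
  have hinj : Function.Injective ψ := by
    refine (injective_iff_map_eq_one ψ).2 fun k hk => Subtype.ext ?_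
    refine S.faithful_line hu k.2 fun z hz => ?_
    by_cases hzx : z = x
    · exact hzx ▸ k.2.1
    · exact congrArg Subtype.val
        (Equiv.congr_fun hk (⟨z, hzx, S.eqL x u z (Ne.symm hu) hz hzx⟩ : S.Pt x u))
  rcases sr_or_two_trans hq htr with hsr | h2
  · exfalso
    obtain ⟨T, hTle, hTn, hTc⟩ := normal_prime_of_sr hq htr hsr
    let X : Subgroup G := (T.comap ψ).map (S.Ker x).subtype
    have hXK : X ≤ S.Ker x := Subgroup.map_subtype_le _
    have hXc : Nat.card X = p := by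
      rw [Subgroup.card_map_of_injective (S.Ker x).subtype_injective,
        ← Subgroup.card_map_of_injective (f := ψ) hinj, Subgroup.map_comap_eq, inf_eq_right.2 hTle,
        hTc, S.card_Pt hu]
    have hXn : ∀ k ∈ S.Ker x, ∀ a ∈ X, k * a * k⁻¹ ∈ X := by
      rintro k hk _ ⟨a, ha, rfl⟩
      refine ⟨⟨k, hk⟩ * a * ⟨k, hk⟩⁻¹, ?_, rfl⟩
      show ψ _ ∈ T
      rw [map_mul, map_mul, map_inv]
      exact hTn _ ⟨_, rfl⟩ _ ha
    refine hPC ⟨X, hXK, hXc, fun g hg a ha => S.mem_of_normal hXK hXc hXn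
      (S.conj_Ker_fix (hXK ha) hg) ?_⟩
    rw [conj_pow, S.pow_eq_one_of_mem hXc ha, mul_one, mul_inv_cancel]
  · obtain ⟨h, ⟨k, rfl⟩, h1, h2'⟩ := h2 ⟨u, hu, rfl⟩ ⟨v, hv, ev⟩ ⟨w, hw, ew⟩
      (fun e => hvu (congrArg Subtype.val e)) (fun e => hwu (congrArg Subtype.val e))
    exact ⟨k, k.2, congrArg Subtype.val h1, congrArg Subtype.val h2'⟩

theorem sum_fixNum {x : Ω} [Fintype (S.Ker x)] {y : Ω} (hy : y ≠ x) :
    ∑ z : S.Ker x, fixNum x (S.L x y) (z : G) = Nat.card (S.Ker x) := by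
  classical
  haveI : Fintype (S.Pt x y) := Fintype.ofFinite _
  have hB := sum_card_fixedBy_eq_card_orbits_mul_card_group (S.Ker x) (S.Pt x y)
  haveI : Unique (Quotient (orbitRel (S.Ker x) (S.Pt x y))) := by
    refine @Unique.mk' _ ⟨Quotient.mk _ ⟨y, hy, rfl⟩⟩ ⟨?_⟩
    intro a b
    induction a using Quotient.inductionOn'
    rename_i i
    induction b using Quotient.inductionOn'
    rename_i j
    obtain ⟨k, hk, hki⟩ := S.exists_Ker_trans j.2.1 i.2.1 (j.2.2.trans i.2.2.symm)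
    exact Quotient.sound ⟨⟨k, hk⟩, Subtype.ext hki⟩
  rw [Fintype.card_unique, one_mul] at hB
  rw [Nat.card_eq_fintype_card, ← hB]
  exact Finset.sum_congr rfl fun z _ => by rw [← Nat.card_eq_fintype_card, S.card_fixedBy hy]

theorem sum_fixNum_mul {x : Ω} [Fintype (S.Ker x)] {y y' : Ω} (hy : y ≠ x)
    (hy' : y' ≠ x) :
    ∑ z : S.Ker x, fixNum x (S.L x y) (z : G) * fixNum x (S.L x y') (z : G) =
      Nat.card (Quotient (orbitRel (S.Ker x) (S.Pt x y × S.Pt x y'))) * Nat.card (S.Ker x) := by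
  classical
  haveI : Fintype (S.Pt x y) := Fintype.ofFinite _
  haveI : Fintype (S.Pt x y') := Fintype.ofFinite _
  have hB := sum_card_fixedBy_eq_card_orbits_mul_card_group (S.Ker x) (S.Pt x y × S.Pt x y')
  rw [Nat.card_eq_fintype_card, Nat.card_eq_fintype_card, ← hB]
  refine Finset.sum_congr rfl fun z _ => ?_
  rw [← S.card_fixedBy hy, ← S.card_fixedBy hy', ← Nat.card_prod, ← Nat.card_eq_fintype_card]
  exact Nat.card_congr ⟨fun w => ⟨(w.1.1, w.2.1), Prod.ext w.1.2 w.2.2⟩,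
    fun w => (⟨w.1.1, congrArg Prod.fst w.2⟩, ⟨w.1.2, congrArg Prod.snd w.2⟩),
    fun _ => rfl, fun _ => rfl⟩

theorem orbits_self {x y : Ω} (hPC : ¬ S.PC x) (hy : y ≠ x) :
    Nat.card (Quotient (orbitRel (S.Ker x) (S.Pt x y × S.Pt x y))) = 2 := by
  classical
  let f : Quotient (orbitRel (S.Ker x) (S.Pt x y × S.Pt x y)) → Bool :=
    Quotient.lift (fun q => decide (q.1 = q.2)) (by
      rintro q r ⟨k, rfl⟩
      exact decide_eq_decide.2 ⟨fun h => smul_left_cancel k h, fun h => congrArg (k • ·) h⟩)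
  rw [Nat.card_eq_of_bijective f ⟨?_, ?_⟩, Nat.card_eq_fintype_card, Fintype.card_bool]
  · intro A B
    induction A using Quotient.inductionOn'
    rename_i q
    induction B using Quotient.inductionOn'
    rename_i r
    intro h
    replace h : (q.1 = q.2 ↔ r.1 = r.2) := decide_eq_decide.1 h
    apply Quotient.sound
    obtain ⟨k, hk, hk1⟩ := S.exists_Ker_trans r.1.2.1 q.1.2.1 (r.1.2.2.trans q.1.2.2.symm)
    by_cases hq : q.1 = q.2
    · refine ⟨⟨k, hk⟩, Prod.ext (Subtype.ext hk1) (Subtype.ext ?_)⟩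
      show k • r.2.1 = q.2.1
      rw [← h.1 hq, ← hq]
      exact hk1
    · have hne : k • r.2.1 ≠ q.1.1 := fun e => (mt h.2 hq)
        (Subtype.ext (smul_left_cancel k (hk1.trans e.symm)))
      obtain ⟨l, hl, hl1, hl2⟩ := S.two_trans hPC q.1.2.1 (smul_ne_of_fix hk.1 r.2.2.1) q.2.2.1
        hne (fun e => hq (Subtype.ext e.symm))
        ((hk.2 _ r.2.2.1).trans (r.2.2.2.trans q.1.2.2.symm)) (q.2.2.2.trans q.1.2.2.symm)
      refine ⟨⟨l * k, (S.Ker x).mul_mem hl hk⟩, Prod.ext (Subtype.ext ?_) (Subtype.ext ?_)⟩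
      · show (l * k) • r.1.1 = q.1.1
        rw [mul_smul, hk1, hl1]
      · show (l * k) • r.2.1 = q.2.1
        rw [mul_smul, hl2]
  · rintro (_ | _)
    · obtain ⟨c, hc, hcy⟩ := Finset.exists_mem_ne
        (s := (S.L x y).erase x) (by rw [S.card_erase (Ne.symm hy)]; exact S.hp.one_lt) y
      refine ⟨Quotient.mk _ (⟨y, hy, rfl⟩, ⟨c, (S.mem_erase_iff hy).1 hc⟩), ?_⟩
      exact decide_eq_false fun e => hcy (congrArg Subtype.val e).symm
    · exact ⟨Quotient.mk _ (⟨y, hy, rfl⟩, ⟨y, hy, rfl⟩), decide_eq_true rfl⟩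

/-- The lines through a point. -/
def lines (x : Ω) : Finset (Finset Ω) := (Finset.univ.erase x).image (S.L x)

theorem card_lines (x : Ω) : (S.lines x).card = p := by
  classical
  refine Eq.trans ?_ (S.card_Ln x)
  rw [← Fintype.card_coe, ← Nat.card_eq_fintype_card]
  exact Nat.card_congr (Equiv.subtypeEquivRight fun ℓ => by simp [lines])

theorem exists_other_line {x y : Ω} (hy : y ≠ x) : ∃ c, c ≠ x ∧ S.L x c ≠ S.L x y := by
  by_contra hcon
  push Not at hcon
  have : S.lines x ⊆ {S.L x y} := by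
    intro ℓ hℓ
    simp only [lines, Finset.mem_image, Finset.mem_erase, Finset.mem_univ, and_true] at hℓ
    obtain ⟨c, hc, rfl⟩ := hℓ
    exact Finset.mem_singleton.2 (hcon c hc)
  have h := Finset.card_le_card this
  rw [S.card_lines, Finset.card_singleton] at h
  exact absurd S.hp.one_lt (not_lt.2 h)

theorem fix_count {x : Ω} {z : G} (hz : z • x = x) :
    (Finset.univ.filter fun w : Ω => z • w = w).card = 1 + ∑ ℓ ∈ S.lines x, fixNum x ℓ z := by
  classical
  have hx : x ∈ Finset.univ.filter fun w : Ω => z • w = w := by simp [hz]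
  rw [← Finset.card_erase_add_one hx, add_comm]
  congr 1
  rw [Finset.card_eq_sum_card_fiberwise (f := S.L x) (t := S.lines x)]
  · refine Finset.sum_congr rfl fun ℓ hℓ => ?_
    simp only [lines, Finset.mem_image, Finset.mem_erase, Finset.mem_univ, and_true] at hℓ
    obtain ⟨y, hy, rfl⟩ := hℓ
    rw [fixNum]
    congr 1
    ext w
    simp only [Finset.mem_filter, Finset.mem_erase, Finset.mem_univ, true_and]
    constructor
    · rintro ⟨⟨hw, hzw⟩, he⟩
      exact ⟨⟨hw, (S.mem_iff_eq (Ne.symm hy) hw).2 he⟩, hzw⟩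
    · rintro ⟨⟨hw, hwL⟩, hzw⟩
      exact ⟨⟨hw, hzw⟩, (S.mem_iff_eq (Ne.symm hy) hw).1 hwL⟩
  · intro w hw
    simp only [Finset.mem_coe, Finset.mem_erase] at hw
    simp only [lines, Finset.mem_coe, Finset.mem_image, Finset.mem_erase, Finset.mem_univ, and_true]
    exact ⟨w, hw.1, rfl⟩

/-- Some two lines have the same fixed point numbers. -/
theorem exists_equal_lines {x : Ω} (hPC : ¬ S.PC x) :
    ∃ y y', y ≠ x ∧ y' ≠ x ∧ S.L x y ≠ S.L x y' ∧
      ∀ z ∈ S.Ker x, fixNum x (S.L x y) z = fixNum x (S.L x y') z := by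
  classical
  haveI := Fintype.ofFinite G
  obtain ⟨P, hPx, hPc, -, htr, hcomm⟩ := S.exists_P x
  have hXc := S.exists_X x hPx hPc htr hcomm
  set K := Nat.card (S.Ker x) with hK
  have hKpos : 0 < K := Nat.card_pos
  by_contra hcon
  push Not at hcon
  -- all cross sums equal the group order
  have hcross : ∀ y y', y ≠ x → y' ≠ x → S.L x y ≠ S.L x y' →
      ∑ z : S.Ker x, (fixNum x (S.L x y) (z : G) : ℤ) * fixNum x (S.L x y') (z : G) = (K : ℤ) := by
    intro y y' hy hy' hne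
    have h := S.sum_fixNum_mul hy hy'
    set N := Nat.card (Quotient (orbitRel (S.Ker x) (S.Pt x y × S.Pt x y')))
    have hN1 : 1 ≤ N := @Nat.card_pos _ ⟨Quotient.mk _ (⟨y, hy, rfl⟩, ⟨y', hy', rfl⟩)⟩ _
    have h' : ∑ z : S.Ker x, (fixNum x (S.L x y) (z : G) : ℤ) * fixNum x (S.L x y') (z : G) =
        (N : ℤ) * K := by exact_mod_cast h
    rcases Nat.lt_or_ge N 2 with hN | hN
    · rw [h', show N = 1 by omega, Nat.cast_one, one_mul]
    · exfalso
      obtain ⟨z₀, hz₀, hne'⟩ := hcon y y' hy hy' hne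
      have e1 : ∀ u, u ≠ x → ∑ z : S.Ker x, (fixNum x (S.L x u) (z : G) : ℤ) ^ 2 = 2 * K := by
        intro u hu
        have := S.sum_fixNum_mul hu hu
        rw [S.orbits_self hPC hu] at this
        simp only [pow_two]
        exact_mod_cast this
      have hsum : ∑ z : S.Ker x, ((fixNum x (S.L x y) (z : G) : ℤ) - fixNum x (S.L x y') (z : G)) ^ 2 =
          (4 - 2 * (N : ℤ)) * K := by
        simp only [sub_sq, Finset.sum_add_distrib, Finset.sum_sub_distrib, e1 y hy, e1 y' hy',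
          mul_assoc, ← Finset.mul_sum, h']
        ring
      have hpos : 0 < ∑ z : S.Ker x,
          ((fixNum x (S.L x y) (z : G) : ℤ) - fixNum x (S.L x y') (z : G)) ^ 2 := by
        refine Finset.sum_pos' (fun z _ => sq_nonneg _) ⟨⟨z₀, hz₀⟩, Finset.mem_univ _, ?_⟩
        have : (fixNum x (S.L x y) z₀ : ℤ) - fixNum x (S.L x y') z₀ ≠ 0 :=
          sub_ne_zero.2 (by exact_mod_cast hne')
        positivity
      rw [hsum] at hpos
      have hN' : (2 : ℤ) ≤ N := by exact_mod_cast hN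
      nlinarith
  -- the sum of squared deviations
  let f : S.Ker x → ℤ := fun z => ∑ ℓ ∈ S.lines x, (fixNum x ℓ (z : G) : ℤ)
  have hf1 : ∑ z, f z = (p : ℤ) * K := by
    simp only [f]
    rw [Finset.sum_comm, Finset.sum_eq_card_nsmul (b := (K : ℤ)), S.card_lines, nsmul_eq_mul]
    intro ℓ hℓ
    simp only [lines, Finset.mem_image, Finset.mem_erase, Finset.mem_univ, and_true] at hℓ
    obtain ⟨y, hy, rfl⟩ := hℓ
    exact_mod_cast S.sum_fixNum hy
  have hf2 : ∑ z, f z ^ 2 = (p : ℤ) * (p + 1) * K := by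
    simp only [f, pow_two, Finset.sum_mul_sum]
    rw [Finset.sum_comm, Finset.sum_eq_card_nsmul (b := ((p : ℤ) + 1) * K), S.card_lines,
      nsmul_eq_mul, mul_assoc]
    intro ℓ hℓ
    rw [Finset.sum_comm, ← Finset.add_sum_erase _ _ hℓ, Finset.sum_eq_card_nsmul (b := (K : ℤ)) (s := (S.lines x).erase ℓ),
      Finset.card_erase_of_mem hℓ, S.card_lines, nsmul_eq_mul]
    · simp only [lines, Finset.mem_image, Finset.mem_erase, Finset.mem_univ, and_true] at hℓ
      obtain ⟨y, hy, rfl⟩ := hℓ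
      have := S.sum_fixNum_mul hy hy
      rw [S.orbits_self hPC hy] at this
      rw [show ∑ z : S.Ker x, (fixNum x (S.L x y) (z : G) : ℤ) * fixNum x (S.L x y) (z : G) = 2 * K
        by exact_mod_cast this, Nat.cast_sub S.hp.pos]
      push_cast
      ring
    · intro m hm
      simp only [lines, Finset.mem_image, Finset.mem_erase, Finset.mem_univ, and_true] at hℓ hm
      obtain ⟨y, hy, rfl⟩ := hℓ
      obtain ⟨hne, y', hy', rfl⟩ := hm
      exact hcross y y' hy hy' (Ne.symm hne)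
  have hdev : ∑ z, ((p : ℤ) + 1 - f z) ^ 2 = ((p : ℤ) + 1) * K := by
    simp only [sub_sq, Finset.sum_add_distrib, Finset.sum_sub_distrib, mul_assoc, ← Finset.mul_sum,
      hf1, hf2, Finset.sum_const, Finset.card_univ, nsmul_eq_mul]
    rw [← Nat.card_eq_fintype_card, ← hK]
    ring
  -- conjugates of an element of order p
  haveI : Nontrivial (P ⊓ S.Ker x : Subgroup G) :=
    Finite.one_lt_card_iff_nontrivial.1 (hXc.symm ▸ S.hp.one_lt)
  obtain ⟨⟨x₀, hx₀⟩, hx₀1⟩ := exists_ne (1 : (P ⊓ S.Ker x : Subgroup G))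
  let cj : S.Ker x → S.Ker x := fun k =>
    ⟨(k : G) * x₀ * (k : G)⁻¹,
      (S.Ker x).mul_mem ((S.Ker x).mul_mem k.2 hx₀.2) ((S.Ker x).inv_mem k.2)⟩
  have hfib : K ≤ p * (Finset.univ.image cj).card := by
    rw [hK, Nat.card_eq_fintype_card, ← Finset.card_univ]
    refine Finset.card_le_mul_card_image _ p fun v hv => ?_
    obtain ⟨k₀, -, rfl⟩ := Finset.mem_image.1 hv
    refine le_trans (Finset.card_le_card_of_injOn (t := Finset.univ.filter fun g : G => g ∈ P ⊓ S.Ker x)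
      (fun k : S.Ker x => (k₀ : G)⁻¹ * k) (fun k hk => ?_) (fun k _ l _ e => ?_)) (le_of_eq ?_)
    · simp only [Finset.coe_filter, Finset.mem_univ, true_and, Set.mem_setOf_eq] at hk ⊢
      have e : (k : G) * x₀ * (k : G)⁻¹ = k₀ * x₀ * (k₀ : G)⁻¹ := congrArg Subtype.val hk
      refine S.mem_X_of_comm inf_le_right hXc ((S.Ker x).mul_mem ((S.Ker x).inv_mem k₀.2) k.2)
        (commute_of_gen (hXc.symm ▸ S.hp) hx₀ (fun h => hx₀1 (Subtype.ext h)) ?_)
      calc (k₀ : G)⁻¹ * k * x₀ = (k₀ : G)⁻¹ * (k * x₀ * (k : G)⁻¹) * k := by group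
        _ = x₀ * ((k₀ : G)⁻¹ * k) := by rw [e]; group
    · exact Subtype.ext (mul_left_cancel e)
    · rw [← Fintype.card_subtype, ← Nat.card_eq_fintype_card]
      exact hXc
  have hzero : ∀ v ∈ Finset.univ.image cj, f v = 0 := by
    intro v hv
    obtain ⟨k, -, rfl⟩ := Finset.mem_image.1 hv
    refine Finset.sum_eq_zero fun ℓ hℓ => ?_
    rw [Nat.cast_eq_zero, fixNum, Finset.card_eq_zero, Finset.filter_eq_empty_iff]
    intro w hw he
    have hwx : w ≠ x := (Finset.mem_erase.1 hw).1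
    have h1 := S.eq_one_of_fix (Ne.symm hwx) (cj k).2.1 he (k := 1) (by
      rw [pow_one]
      show ((k : G) * x₀ * (k : G)⁻¹) ^ p = 1
      rw [conj_pow, S.pow_eq_one_of_mem hXc hx₀, mul_one, mul_inv_cancel])
    exact hx₀1 (Subtype.ext (conj_eq_one_iff.1 h1))
  have hlow : ((Finset.univ.image cj).card : ℤ) * ((p : ℤ) + 1) ^ 2 ≤ ((p : ℤ) + 1) * K := by
    rw [← hdev, ← nsmul_eq_mul, ← Finset.sum_const]
    refine le_trans (le_of_eq (Finset.sum_congr rfl fun v hv => ?_))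
      (Finset.sum_le_sum_of_subset_of_nonneg (Finset.subset_univ _) fun v _ _ => sq_nonneg _)
    rw [hzero v hv, sub_zero]
  have hfib' : (K : ℤ) ≤ (p : ℤ) * (Finset.univ.image cj).card := by exact_mod_cast hfib
  have hKz : (0 : ℤ) < K := by exact_mod_cast hKpos
  nlinarith

theorem fixNum_conj {x y : Ω} (hy : y ≠ x) {g : G} (hg : g • x = x) (z : G) :
    fixNum x (S.L x (g • y)) z = fixNum x (S.L x y) (g⁻¹ * z * g) := by
  have e : S.L x (g • y) = (S.L x y).map ⟨(g • ·), MulAction.injective g⟩ := by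
    rw [← S.L_smul_eq g (Ne.symm hy), hg]
  rw [fixNum, fixNum]
  refine Finset.card_bij (fun w _ => g⁻¹ • w) ?_ (fun _ _ _ _ h => smul_left_cancel _ h) ?_
  · intro w hw
    simp only [Finset.mem_filter, Finset.mem_erase, e, Finset.mem_map,
      Function.Embedding.coeFn_mk] at hw ⊢
    obtain ⟨⟨hwx, u, hu, rfl⟩, hz⟩ := hw
    rw [inv_smul_smul]
    exact ⟨⟨fun h => hwx (by rw [h, hg]), hu⟩, by rw [mul_smul, mul_smul, hz, inv_smul_smul]⟩
  · intro u hu
    simp only [Finset.mem_filter, Finset.mem_erase] at hu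
    obtain ⟨⟨hux, huL⟩, hz⟩ := hu
    refine ⟨g • u, ?_, inv_smul_smul g u⟩
    simp only [Finset.mem_filter, Finset.mem_erase, e, Finset.mem_map, Function.Embedding.coeFn_mk]
    refine ⟨⟨smul_ne_of_fix hg hux, u, huL, rfl⟩, ?_⟩
    rw [mul_smul, mul_smul, inv_smul_eq_iff] at hz
    exact hz

/-- All lines through a point have the same fixed point numbers. -/
theorem fixNum_eq {x : Ω} (hPC : ¬ S.PC x) {y y' : Ω} (hy : y ≠ x) (hy' : y' ≠ x) {z : G}
    (hz : z ∈ S.Ker x) : fixNum x (S.L x y) z = fixNum x (S.L x y') z := by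
  refine S.rel_points (x := x)
    (fun u v => ∀ z ∈ S.Ker x, fixNum x (S.L x u) z = fixNum x (S.L x v) z)
    (fun _ _ _ => rfl) (fun _ _ h z hz => (h z hz).symm)
    (fun _ _ _ h h' z hz => (h z hz).trans (h' z hz)) (fun u v _ _ he z _ => by rw [he])
    ?_ ?_ y y' hy hy' z hz
  · intro g hg u v hu hv h w hw
    rw [S.fixNum_conj hu hg, S.fixNum_conj hv hg]
    exact h _ (by simpa using S.conj_Ker_fix hw (inv_smul_eq_self hg))
  · exact S.exists_equal_lines hPC

/-- The kernel is not transitive on the pairs of points from two lines. -/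
theorem not_trans_pairs {x : Ω} (hPC : ¬ S.PC x) {u v : Ω} (hu : u ≠ x) (hv : v ≠ x) :
    ∃ v', v' ≠ x ∧ S.L x v' = S.L x v ∧ ∀ k ∈ S.Ker x, k • u = u → k • v ≠ v' := by
  classical
  haveI := Fintype.ofFinite G
  by_contra hcon
  push Not at hcon
  haveI : Unique (Quotient (orbitRel (S.Ker x) (S.Pt x u × S.Pt x v))) := by
    refine @Unique.mk' _ ⟨Quotient.mk _ (⟨u, hu, rfl⟩, ⟨v, hv, rfl⟩)⟩ ⟨?_⟩
    have base : ∀ q : S.Pt x u × S.Pt x v, ∃ k : S.Ker x,
        k • ((⟨u, hu, rfl⟩, ⟨v, hv, rfl⟩) : S.Pt x u × S.Pt x v) = q := by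
      intro q
      obtain ⟨k, hk, hk1⟩ := S.exists_Ker_trans hu q.1.2.1 q.1.2.2.symm
      obtain ⟨l, hl, hl1, hl2⟩ := hcon (k⁻¹ • q.2.1)
        (smul_ne_of_fix ((S.Ker x).inv_mem hk).1 q.2.2.1)
        ((((S.Ker x).inv_mem hk).2 _ q.2.2.1).trans q.2.2.2)
      refine ⟨⟨k * l, (S.Ker x).mul_mem hk hl⟩, Prod.ext (Subtype.ext ?_) (Subtype.ext ?_)⟩
      · show (k * l) • u = q.1.1
        rw [mul_smul, hl1, hk1]
      · show (k * l) • v = q.2.1
        rw [mul_smul, hl2, smul_inv_smul]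
    intro a b
    induction a using Quotient.inductionOn'
    rename_i q
    induction b using Quotient.inductionOn'
    rename_i r
    obtain ⟨k, rfl⟩ := base q
    obtain ⟨l, rfl⟩ := base r
    exact Quotient.sound ⟨k * l⁻¹, (mul_smul k l⁻¹ _).trans (congrArg (k • ·) (inv_smul_smul l _))⟩
  have h := S.sum_fixNum_mul hu hv
  rw [Nat.card_unique, one_mul, show (∑ z : S.Ker x, fixNum x (S.L x u) (z : G) *
    fixNum x (S.L x v) (z : G)) = ∑ z : S.Ker x, fixNum x (S.L x u) (z : G) *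
    fixNum x (S.L x u) (z : G) from Finset.sum_congr rfl fun z _ => by
      rw [← S.fixNum_eq hPC hu hv z.2],
    S.sum_fixNum_mul hu hu, S.orbits_self hPC hu] at h
  have : 0 < Nat.card (S.Ker x) := Nat.card_pos
  omega

theorem fix_count_mul {x y : Ω} (hPC : ¬ S.PC x) (hy : y ≠ x) {z : G} (hz : z ∈ S.Ker x) :
    (Finset.univ.filter fun w : Ω => z • w = w).card = 1 + p * fixNum x (S.L x y) z := by
  rw [S.fix_count hz.1, Finset.sum_eq_card_nsmul (b := fixNum x (S.L x y) z), S.card_lines,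
    smul_eq_mul]
  intro ℓ hℓ
  simp only [lines, Finset.mem_image, Finset.mem_erase, Finset.mem_univ, and_true] at hℓ
  obtain ⟨y', hy', rfl⟩ := hℓ
  exact (S.fixNum_eq hPC hy hy' hz).symm

end Sys

end CfsgLib.DoublyPrim
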