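import Cfsg.Agent.Lib.DoublyPrim.CaseB
import Cfsg.Agent.Lib.Transfer.AbelianSylow

/-!
The case where the kernel on lines acts doubly transitively on each line: the contradiction.
-/

set_option autoImplicit false
set_option linter.unusedSectionVars false
set_option linter.style.haveILetI false

namespace CfsgLib.DoublyPrim

open MulAction
open scoped Pointwise

variable {G Ω : Type*} [Group G] [Finite G] [Fintype Ω] [DecidableEq Ω] [MulAction G Ω]
  [FaithfulSMul G Ω] {p : ℕ} (S : Sys G Ω p)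

namespace Sys

include S

/-- The stabilizer in the kernel at `x` of a further point. -/
def Ky (x y : Ω) : Subgroup G := S.Ker x ⊓ stabilizer G y

theorem mem_Ky {x y : Ω} {k : G} : k ∈ S.Ky x y ↔ k ∈ S.Ker x ∧ k • y = y := Iff.rfl

theorem Ky_le_St2 (x y : Ω) : S.Ky x y ≤ St2 G x y := fun _ h => ⟨h.1.1, h.2⟩

theorem Ky_smul (g : G) (x y : Ω) :
    S.Ky (g • x) (g • y) = (S.Ky x y).map (MulAut.conj g).toMonoidHom := by
  ext k
  constructor
  · intro hk
    refine ⟨g⁻¹ * k * g, ⟨by simpa using S.conj_Ker hk.1 g⁻¹, ?_⟩, ?_⟩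
    · show (g⁻¹ * k * g) • y = y
      rw [mul_smul, mul_smul, show k • g • y = g • y from hk.2, inv_smul_smul]
    · show g * (g⁻¹ * k * g) * g⁻¹ = k
      group
  · rintro ⟨l, hl, rfl⟩
    refine ⟨S.conj_Ker hl.1 g, ?_⟩
    show (g * l * g⁻¹) • g • y = g • y
    rw [conj_smul, show l • y = y from hl.2]

theorem Ky_smul_fix {g : G} {x : Ω} (hg : g • x = x) (y : Ω) :
    S.Ky x (g • y) = (S.Ky x y).map (MulAut.conj g).toMonoidHom := by
  have := S.Ky_smul g x y
  rwa [hg] at this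

theorem card_Ky {x y : Ω} (hy : y ≠ x) : p * Nat.card (S.Ky x y) = Nat.card (S.Ker x) := by
  have he : orbit (S.Ker x) y = ↑((S.L x y).erase x) := by
    ext u
    simp only [Finset.mem_coe, S.mem_erase_iff hy]
    constructor
    · rintro ⟨⟨k, hk⟩, rfl⟩
      exact ⟨smul_ne_of_fix hk.1 hy, hk.2 y hy⟩
    · rintro ⟨hu, hue⟩
      obtain ⟨k, hk, hku⟩ := S.exists_Ker_trans hy hu hue.symm
      exact ⟨⟨k, hk⟩, hku⟩
  have hc := card_orbit_subgroup (S.Ker x) y
  rw [Nat.card_coe_set_eq, he, Set.ncard_coe_finset, S.card_erase (Ne.symm hy)] at hc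
  exact hc

theorem Ky_eq_of_le {x u v : Ω} (hu : u ≠ x) (hv : v ≠ x) (h : S.Ky x u ≤ S.Ky x v) :
    S.Ky x u = S.Ky x v :=
  Subgroup.eq_of_le_of_card_ge h (le_of_eq (Nat.eq_of_mul_eq_mul_left S.hp.pos
    ((S.card_Ky hv).trans (S.card_Ky hu).symm)))

/-- In its line, `Ky x y` fixes only `y`. -/
theorem Ky_fix_line {x y w : Ω} (hPC : ¬ S.PC x) (hy : y ≠ x) (hw : w ≠ x)
    (he : S.L x w = S.L x y) (hfix : ∀ k ∈ S.Ky x y, k • w = w) : w = y := by
  by_contra hwy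
  obtain ⟨c, hc, hcy, hcw⟩ : ∃ c ∈ (S.L x y).erase x, c ≠ y ∧ c ≠ w := by
    by_contra hcon
    push Not at hcon
    have hsub : (S.L x y).erase x ⊆ {y, w} := fun c hc => by
      simp only [Finset.mem_insert, Finset.mem_singleton]
      by_cases h : c = y
      · exact .inl h
      · exact .inr (hcon c hc h)
    have := (Finset.card_le_card hsub).trans Finset.card_le_two
    rw [S.card_erase (Ne.symm hy)] at this
    have := S.two_lt
    omega
  rw [S.mem_erase_iff hy] at hc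
  obtain ⟨k, hk, hky, hkw⟩ := S.two_trans hPC hy hw hc.1 hwy hcy he hc.2
  exact hcw (hkw ▸ hfix k ⟨hk, hky⟩)

/-- `Ky x y` fixes a point outside its line. -/
def Eqv (x y : Ω) : Prop := ∃ c, c ≠ x ∧ S.L x c ≠ S.L x y ∧ ∀ k ∈ S.Ky x y, k • c = c

theorem exists_T {x y : Ω} (hPC : ¬ S.PC x) (hy : y ≠ x) (h : S.Eqv x y) :
    ∃ T : Finset Ω, (∀ w, w ∈ T ↔ ∀ k ∈ S.Ky x y, k • w = w) ∧ T.card = p + 1 ∧
      ∀ c ∈ T, c ≠ x → S.Ky x c = S.Ky x y ∧ ∀ g : G, g • x = x → g • y = c →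
        ∀ w, g • w ∈ T ↔ w ∈ T := by
  classical
  set T : Finset Ω := Finset.univ.filter fun w => ∀ k ∈ S.Ky x y, k • w = w with hT
  have hmem : ∀ w, w ∈ T ↔ ∀ k ∈ S.Ky x y, k • w = w := fun w => by simp [hT]
  have hKeq : ∀ c ∈ T, c ≠ x → S.Ky x c = S.Ky x y := fun c hc hcx =>
    (S.Ky_eq_of_le hy hcx fun k hk => ⟨hk.1, (hmem c).1 hc k hk⟩).symm
  obtain ⟨c₀, hc₀, hne, hfix⟩ := h
  let R : Ω → Ω → Prop := fun u v => u = v ∨ ∃ u' v', u' ≠ x ∧ v' ≠ x ∧ S.L x u' = S.L x u ∧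
    S.L x v' = S.L x v ∧ S.Ky x u' = S.Ky x v'
  have hall : ∀ u v, u ≠ x → v ≠ x → R u v := by
    refine S.rel_points R (fun u => .inl rfl) ?_ ?_ ?_ ?_ ?_
    · rintro u v (rfl | ⟨u', v', h1, h2, h3, h4, h5⟩)
      · exact .inl rfl
      · exact .inr ⟨v', u', h2, h1, h4, h3, h5.symm⟩
    · rintro u v w (rfl | ⟨u', v', h1, h2, h3, h4, h5⟩) h'
      · exact h'
      rcases h' with rfl | ⟨v'', w', g2, g3, g4, g5, g6⟩
      · exact .inr ⟨u', v', h1, h2, h3, h4, h5⟩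
      obtain ⟨k, hk, hkv⟩ := S.exists_Ker_trans h2 g2 (h4.trans g4.symm)
      refine .inr ⟨k • u', w', smul_ne_of_fix hk.1 h1, g3, (hk.2 u' h1).trans h3, g5, ?_⟩
      rw [← g6, ← hkv, S.Ky_smul_fix hk.1, S.Ky_smul_fix hk.1, h5]
    · intro u v hu hv he
      exact .inr ⟨u, u, hu, hu, rfl, he, rfl⟩
    · rintro g hg u v hu hv (rfl | ⟨u', v', h1, h2, h3, h4, h5⟩)
      · exact .inl rfl
      exact .inr ⟨g • u', g • v', smul_ne_of_fix hg h1, smul_ne_of_fix hg h2,
        S.L_congr_fix hg (Ne.symm h1) (Ne.symm hu) h3, S.L_congr_fix hg (Ne.symm h2) (Ne.symm hv) h4,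
        by rw [S.Ky_smul_fix hg, S.Ky_smul_fix hg, h5]⟩
    · exact ⟨y, c₀, hy, hc₀, Ne.symm hne, .inr ⟨y, c₀, hy, hc₀, rfl, rfl,
        S.Ky_eq_of_le hy hc₀ fun k hk => ⟨hk.1, hfix k hk⟩⟩⟩
  have hline : ∀ z, z ≠ x → ∃ c ∈ T, c ≠ x ∧ S.L x c = S.L x z := by
    intro z hz
    rcases hall y z hy hz with rfl | ⟨u', v', h1, h2, h3, h4, h5⟩
    · exact ⟨y, (hmem y).2 fun k hk => hk.2, hy, rfl⟩
    obtain ⟨k, hk, hku⟩ := S.exists_Ker_trans h1 hy h3
    refine ⟨k • v', (hmem _).2 fun l hl => ?_, smul_ne_of_fix hk.1 h2, (hk.2 v' h2).trans h4⟩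
    rw [← hku, S.Ky_smul_fix hk.1, h5, ← S.Ky_smul_fix hk.1] at hl
    exact hl.2
  have hinj : Set.InjOn (S.L x) ↑(T.erase x) := by
    intro u hu v hv he
    rw [Finset.mem_coe, Finset.mem_erase] at hu hv
    refine (S.Ky_fix_line hPC hu.1 hv.1 he.symm fun k hk => ?_).symm
    rw [hKeq u hu.2 hu.1] at hk
    exact (hmem v).1 hv.2 k hk
  have hcard : T.card = p + 1 := by
    have himg : (T.erase x).image (S.L x) = S.lines x := by
      ext ℓ
      simp only [lines, Finset.mem_image, Finset.mem_erase, Finset.mem_univ, and_true]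
      constructor
      · rintro ⟨c, ⟨hc, -⟩, rfl⟩
        exact ⟨c, hc, rfl⟩
      · rintro ⟨z, hz, rfl⟩
        obtain ⟨c, hc, hcx, he⟩ := hline z hz
        exact ⟨c, ⟨hcx, hc⟩, he⟩
    rw [← Finset.card_erase_add_one ((hmem x).2 fun k hk => hk.1.1),
      ← Finset.card_image_of_injOn hinj, himg, S.card_lines]
  refine ⟨T, hmem, hcard, fun c hc hcx => ⟨hKeq c hc hcx, fun g hg hgy w => ?_⟩⟩
  have hK : (S.Ky x y).map (MulAut.conj g).toMonoidHom = S.Ky x y := by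
    rw [← S.Ky_smul_fix hg, hgy, hKeq c hc hcx]
  rw [hmem, hmem]
  constructor
  · intro h k hk
    have := h (g * k * g⁻¹) (hK ▸ ⟨k, hk, rfl⟩)
    rw [conj_smul] at this
    exact smul_left_cancel g this
  · intro h k hk
    obtain ⟨l, hl, rfl⟩ : k ∈ (S.Ky x y).map (MulAut.conj g).toMonoidHom := hK.symm ▸ hk
    show (g * l * g⁻¹) • g • w = g • w
    rw [conj_smul, h l hl]

/-- The subcase where `Ky x y = Ky y x`. -/
theorem caseB_eq (hPC : ∀ x, ¬ S.PC x) (h : ∀ x y : Ω, x ≠ y → S.Ky x y = S.Ky y x) : False := by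
  classical
  have heqv : ∀ x y, x ≠ y → S.Eqv x y := by
    intro x y hxy
    have hy : y ≠ x := Ne.symm hxy
    set s := ((S.L y x).erase y).erase x with hs
    have hscard : s.card + 1 = p := by
      rw [hs, Finset.card_erase_add_one ((S.mem_erase_iff hxy).2 ⟨hxy, rfl⟩), S.card_erase hy]
    obtain ⟨v, hv⟩ : s.Nonempty := by
      rw [← Finset.card_pos]
      have := S.two_lt
      omega
    simp only [hs, Finset.mem_erase] at hv
    obtain ⟨hvx, hvy, hvL⟩ := hv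
    have hsC : ∀ w ∈ s, w ≠ y ∧ w ∈ (S.L x v).erase x := by
      intro w hw
      simp only [hs, Finset.mem_erase] at hw
      obtain ⟨hwx, hwy, hwL⟩ := hw
      obtain ⟨k, hk, hkx, hkv⟩ := S.two_trans (hPC y) hxy hvy hwy hvx hwx
        (S.eqL y x v hy hvL hvy) (S.eqL y x w hy hwL hwy)
      have hk' : k ∈ S.Ky x y := (h x y hxy).symm ▸ ⟨hk, hkx⟩
      exact ⟨hwy, (S.mem_erase_iff hvx).2 ⟨hwx, hkv ▸ hk'.1.2 v hvx⟩⟩
    have hvC : S.L x v ≠ S.L x y := by
      intro he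
      refine S.asym hy (S.L_eq_of_subset hy hxy fun w hw => ?_)
      by_cases hwx : w = x
      · exact hwx ▸ (S.mem x y hxy).1
      by_cases hwy : w = y
      · exact hwy ▸ (S.mem x y hxy).2
      have := (hsC w (by simp [hs, hwx, hwy, hw])).2
      rw [he] at this
      exact Finset.mem_of_mem_erase this
    have hsub : s ⊆ (S.L x v).erase x := fun w hw => (hsC w hw).2
    obtain ⟨c, hc⟩ : ∃ c, (S.L x v).erase x \ s = {c} := Finset.card_eq_one.1 (by
      rw [Finset.card_sdiff_of_subset hsub, S.card_erase (Ne.symm hvx)]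
      omega)
    have hc' : c ∈ (S.L x v).erase x ∧ c ∉ s :=
      Finset.mem_sdiff.1 (hc.symm ▸ Finset.mem_singleton_self c)
    obtain ⟨hcx, hcL⟩ := (S.mem_erase_iff hvx).1 hc'.1
    refine ⟨c, hcx, fun e => hvC (hcL.symm.trans e), fun k hk => ?_⟩
    have hk' : k ∈ S.Ky y x := h x y hxy ▸ hk
    refine Finset.mem_singleton.1 (hc ▸ Finset.mem_sdiff.2
      ⟨(S.mem_erase_iff hvx).2 ⟨smul_ne_of_fix hk.1.1 hcx, (hk.1.2 c hcx).trans hcL⟩, ?_⟩)
    intro hmem
    refine hc'.2 ?_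
    simp only [hs, Finset.mem_erase] at hmem ⊢
    obtain ⟨h1, h2, h3⟩ := hmem
    have hcy : c ≠ y := fun e => h2 (by rw [e]; exact hk.2)
    refine ⟨hcx, hcy, (S.mem_iff_eq hy hcy).2 ?_⟩
    rw [← hk'.1.2 c hcy]
    exact S.eqL y x _ hy h3 h2
  let F : Ω → Ω → Finset Ω := fun x y => Finset.univ.filter fun w => ∀ k ∈ S.Ky x y, k • w = w
  have hF : ∀ x y w, w ∈ F x y ↔ ∀ k ∈ S.Ky x y, k • w = w := fun x y w => by simp [F]
  refine no_lines S.hp.two_le S.hcard F
    (fun x y _ => ⟨(hF x y x).2 fun k hk => hk.1.1, (hF x y y).2 fun k hk => hk.2⟩)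
    (fun x y hxy => ?_) (fun x y hxy => by simp only [F, h x y hxy])
    (fun x y z hxy hz hzx => ?_)
  · obtain ⟨T, hT, hTc, -⟩ := S.exists_T (hPC x) (Ne.symm hxy) (heqv x y hxy)
    rw [show F x y = T from Finset.ext fun w => (hF x y w).trans (hT w).symm, hTc]
  · obtain ⟨T, hT, -, hTK⟩ := S.exists_T (hPC x) (Ne.symm hxy) (heqv x y hxy)
    have := (hTK z ((hT z).2 ((hF x y z).1 hz)) hzx).1
    simp only [F, this]

theorem exists_Ky_fix (x y : Ω) (hy : y ≠ x) (h : ¬ S.Ky x y ≤ S.Ker y) {z : Ω}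
    (hz : ∀ k ∈ S.Ky x y, k • z = z) : z ∈ S.L y x :=
  S.only_fix (Ne.symm hy) (S.Ky x y) (fun _ hk => ⟨hk.2, hk.1.1⟩)
    (fun g hg n hn => ⟨S.conj_Ker_fix hn.1 hg.2, by
      show (g * n * g⁻¹) • y = y
      rw [mul_smul, mul_smul, inv_smul_eq_self hg.1, show n • y = y from hn.2, hg.1]⟩) h hz

/-- With a semiregular action on lines, `Ky x y` fixes a point outside its line. -/
theorem eqv_of_SR {x y : Ω} (hPC : ¬ S.PC x) (hy : y ≠ x) (hne : ¬ S.Ky x y ≤ S.Ker y)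
    (hSR : S.SR y) : S.Eqv x y := by
  classical
  obtain ⟨z, hz, hzK⟩ := SetLike.not_le_iff_exists.1 hne
  have hsub : (Finset.univ.filter fun w : Ω => z • w = w) ⊆ S.L y x := by
    intro w hw
    simp only [Finset.mem_filter, Finset.mem_univ, true_and] at hw
    by_cases hwy : w = y
    · exact hwy ▸ (S.mem y x hy).1
    refine (S.mem_iff_eq hy hwy).2 ?_
    by_contra hne'
    exact hzK (hSR z hz.2 w x hwy (Ne.symm hy) hne' (by rw [hw]) (by rw [hz.1.1]))
  have hcount := S.fix_count_mul hPC hy hz.1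
  set π := fixNum x (S.L x y) z
  have hπ : 1 ≤ π := Finset.card_pos.2
    ⟨y, Finset.mem_filter.2 ⟨(S.mem_erase_iff hy).2 ⟨hy, rfl⟩, hz.2⟩⟩
  have hle := Finset.card_le_card hsub
  rw [S.cardL y x hy, hcount] at hle
  have hπ1 : π = 1 := by
    by_contra h1
    have : p * 2 ≤ p * π := Nat.mul_le_mul_left p (by omega)
    have := S.two_lt
    omega
  have heq : (Finset.univ.filter fun w : Ω => z • w = w) = S.L y x :=
    Finset.eq_of_subset_of_card_le hsub
      (by rw [S.cardL y x hy, hcount, hπ1, mul_one, add_comm])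
  obtain ⟨c₁, hc₁, hc₁ne⟩ := S.exists_other_line hy
  have h1 : fixNum x (S.L x c₁) z = 1 := (S.fixNum_eq hPC hc₁ hy hz.1).trans hπ1
  obtain ⟨c, hc⟩ := Finset.card_eq_one.1 h1
  have hc' : c ∈ (S.L x c₁).erase x ∧ z • c = c := by
    have h2 := Finset.mem_singleton_self c
    rw [← hc, Finset.mem_filter] at h2
    exact h2
  obtain ⟨hcx, hcL⟩ := (S.mem_erase_iff hc₁).1 hc'.1
  refine ⟨c, hcx, fun e => hc₁ne (hcL.symm.trans e), fun k hk => ?_⟩
  refine Finset.mem_singleton.1 (hc ▸ Finset.mem_filter.2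
    ⟨(S.mem_erase_iff hc₁).2 ⟨smul_ne_of_fix hk.1.1 hcx, (hk.1.2 c hcx).trans hcL⟩, ?_⟩)
  have hcy : c ∈ S.L y x := heq ▸ Finset.mem_filter.2 ⟨Finset.mem_univ c, hc'.2⟩
  have hkc : k • c ∈ S.L y x := by
    have := (S.equivar k y x c hy).2 hcy
    rwa [show k • y = y from hk.2, hk.1.1] at this
  rw [← heq] at hkc
  exact (Finset.mem_filter.1 hkc).2

/-- Without it, transfer gives an equivalent point. -/
theorem eqv_of_not_SR {x y : Ω} (hPC : ¬ S.PC x) (hy : y ≠ x) (hSR : ¬ S.SR x) : S.Eqv x y := by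
  classical
  haveI := Fact.mk S.hp
  obtain ⟨P, hPx, hPc, hfree, htr, hcomm⟩ := S.exists_P x
  have hXc := S.exists_X x hPx hPc htr hcomm
  set X : Subgroup G := P ⊓ S.Ker x with hX
  have hXK : X ≤ S.Ker x := inf_le_right
  let C : Subgroup G := stabilizer G x ⊓ Subgroup.centralizer (X : Set G)
  have hC : ∀ g, g ∈ C ↔ g • x = x ∧ ∀ a ∈ X, g * a = a * g := fun g => by
    simp only [C, Subgroup.mem_inf, mem_stabilizer_iff, Subgroup.mem_centralizer_iff, SetLike.mem_coe]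
    exact and_congr_right fun _ => ⟨fun h a ha => (h a ha).symm, fun h a ha => (h a ha).symm⟩
  have hPC' : P ≤ C := fun q hq => (hC q).2 ⟨hPx hq, fun a ha => hcomm q hq a ha.1⟩
  let W : Subgroup G := ⁅C, C⁆
  have hWC : W ≤ C := Subgroup.commutator_le.2 fun a ha b hb =>
    C.mul_mem (C.mul_mem (C.mul_mem ha hb) (C.inv_mem ha)) (C.inv_mem hb)
  have hCx : C ≤ stabilizer G x := inf_le_left
  -- transfer
  have hWX : ∀ a ∈ X, a ∈ W → a = 1 := by
    intro a ha haW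
    have hcardP : Nat.card (P.subgroupOf C) = p ^ (Nat.card C).factorization p := by
      rw [Nat.card_congr (Subgroup.subgroupOfEquivOfLe hPC').toEquiv, hPc]
      congr 1
      refine le_antisymm ((S.hp.pow_dvd_iff_le_factorization Nat.card_pos.ne').1
        (hPc ▸ Subgroup.card_dvd_of_le hPC')) ?_
      refine ((Nat.factorization_le_iff_dvd Nat.card_pos.ne' Nat.card_pos.ne').2
        (Subgroup.card_dvd_of_le hCx) p).trans (le_of_eq ?_)
      rw [S.card_stabilizer (Ne.symm hy),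
        Nat.factorization_mul (pow_ne_zero _ S.hp.ne_zero) Nat.card_pos.ne']
      simp [S.hp.factorization_self,
        Nat.factorization_eq_zero_of_not_dvd (S.not_dvd (Ne.symm hy))]
    have hab : IsMulCommutative (P.subgroupOf C) :=
      ⟨⟨fun u v => Subtype.ext (Subtype.ext (hcomm _ u.2 _ v.2))⟩⟩
    obtain ⟨a', ha', he⟩ : a ∈ (commutator C).map C.subtype := by
      rw [Subgroup.map_subtype_commutator]
      exact haW
    have he' : (a' : G) = a := he
    have := CfsgLib.Transfer.eq_one_of_abelian_sylow (p := p)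
      (Sylow.ofCard (P.subgroupOf C) hcardP) hab (x := a')
      (show (a' : G) ∈ P from he'.symm ▸ (show a ∈ P from ha.1))
      (fun n _ => Subtype.ext (((hC n).1 n.2).2 a' (he'.symm ▸ ha))) ha'
    rw [← he, this]
    rfl
  have hWKer : ∀ w ∈ W, w ∈ S.Ker x → w = 1 := fun w hw hwK =>
    hWX w (S.mem_X_of_comm hXK hXc hwK ((hC w).1 (hWC hw)).2) hw
  set φ := MulAction.toPermHom (stabilizer G x) (S.Ln x) with hφ
  -- normality of the images
  have hfrat : ∀ g : stabilizer G x, ∃ n : stabilizer G x, φ n = φ g ∧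
      ∀ a ∈ X, (n : G) * a * (n : G)⁻¹ ∈ X := by
    intro g
    let Y : Subgroup G := X.map (MulAut.conj (g : G)).toMonoidHom
    have hYK : Y ≤ S.Ker x := by
      rintro _ ⟨a, ha, rfl⟩
      exact S.conj_Ker_fix (hXK ha) g.2
    have hfac : p ^ (Nat.card (S.Ker x)).factorization p = p := by
      have h1 : p ∣ Nat.card (S.Ker x) := (dvd_of_eq hXc.symm).trans (Subgroup.card_dvd_of_le hXK)
      have h2 := (S.hp.dvd_iff_one_le_factorization Nat.card_pos.ne').1 h1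
      have h3 : (Nat.card (S.Ker x)).factorization p < 2 := by
        by_contra h3
        exact S.not_sq_dvd_Ker x
          ((S.hp.pow_dvd_iff_le_factorization Nat.card_pos.ne').2 (by omega))
      rw [show (Nat.card (S.Ker x)).factorization p = 1 by omega, pow_one]
    have hs : ∀ Z : Subgroup G, Z ≤ S.Ker x → Nat.card Z = p →
        Nat.card (Z.subgroupOf (S.Ker x)) = p ^ (Nat.card (S.Ker x)).factorization p := by
      intro Z hZ hZc
      rw [Nat.card_congr (Subgroup.subgroupOfEquivOfLe hZ).toEquiv, hZc, hfac]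
    have hYc : Nat.card Y = p := by
      rw [Subgroup.card_map_of_injective (MulAut.conj (g : G)).injective, hXc]
    obtain ⟨k, hk⟩ := MulAction.exists_smul_eq (S.Ker x)
      (Sylow.ofCard (Y.subgroupOf (S.Ker x)) (hs Y hYK hYc))
      (Sylow.ofCard (X.subgroupOf (S.Ker x)) (hs X hXK hXc))
    refine ⟨⟨(k : G), k.2.1⟩ * g, ?_, fun a ha => ?_⟩
    · rw [map_mul, (S.mem_Ker_iff ⟨(k : G), k.2.1⟩).1 k.2, one_mul]
    · have hm : (⟨(g : G) * a * (g : G)⁻¹, hYK ⟨a, ha, rfl⟩⟩ : S.Ker x) ∈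
          (Sylow.ofCard (Y.subgroupOf (S.Ker x)) (hs Y hYK hYc) : Subgroup (S.Ker x)) :=
        show (g : G) * a * (g : G)⁻¹ ∈ Y from ⟨a, ha, rfl⟩
      have hk' := Subgroup.smul_mem_pointwise_smul _ (MulAut.conj k) _ hm
      have e : (MulAut.conj k • ((Sylow.ofCard (Y.subgroupOf (S.Ker x)) (hs Y hYK hYc)) :
          Subgroup (S.Ker x))) = ((Sylow.ofCard (X.subgroupOf (S.Ker x)) (hs X hXK hXc)) :
          Subgroup (S.Ker x)) := congrArg Sylow.toSubgroup hk
      rw [e] at hk'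
      have hk'' : (k : G) * ((g : G) * a * (g : G)⁻¹) * (k : G)⁻¹ ∈ X := hk'
      show (k : G) * g * a * ((k : G) * g)⁻¹ ∈ X
      rwa [show (k : G) * g * a * ((k : G) * g)⁻¹ = (k : G) * ((g : G) * a * (g : G)⁻¹) * (k : G)⁻¹
        by group]
  have hnormC : ∀ n : G, n • x = x → (∀ a ∈ X, n * a * n⁻¹ ∈ X) →
      C.map (MulAut.conj n).toMonoidHom = C := by
    intro n hn hna
    refine Subgroup.eq_of_le_of_card_ge ?_
      (by rw [Subgroup.card_map_of_injective (MulAut.conj n).injective])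
    rintro _ ⟨c, hc, rfl⟩
    rw [SetLike.mem_coe, hC] at hc
    refine (hC _).2 ⟨show (n * c * n⁻¹) • x = x by
      rw [mul_smul, mul_smul, inv_smul_eq_self hn, hc.1, hn], fun a ha => ?_⟩
    obtain ⟨b, hb, rfl⟩ : a ∈ X.map (MulAut.conj n).toMonoidHom := by
      rw [Subgroup.eq_of_le_of_card_ge (show X.map (MulAut.conj n).toMonoidHom ≤ X by
          rintro _ ⟨b, hb, rfl⟩; exact hna b hb)
        (by rw [Subgroup.card_map_of_injective (MulAut.conj n).injective])]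
      exact ha
    show n * c * n⁻¹ * (n * b * n⁻¹) = n * b * n⁻¹ * (n * c * n⁻¹)
    calc n * c * n⁻¹ * (n * b * n⁻¹) = n * (c * b) * n⁻¹ := by group
      _ = n * (b * c) * n⁻¹ := by rw [hc.2 b hb]
      _ = _ := by group
  let img : Subgroup G → Subgroup (Equiv.Perm (S.Ln x)) := fun Z =>
    (Z.subgroupOf (stabilizer G x)).map φ
  have himg_norm : ∀ Z : Subgroup G, (∀ n : G, n • x = x → (∀ a ∈ X, n * a * n⁻¹ ∈ X) →
      Z.map (MulAut.conj n).toMonoidHom = Z) →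
      ∀ h ∈ S.lineGroup x, ∀ z ∈ img Z, h * z * h⁻¹ ∈ img Z := by
    rintro Z hZ _ ⟨g, rfl⟩ _ ⟨z, hz, rfl⟩
    obtain ⟨n, hn, hnX⟩ := hfrat g
    show φ g * φ z * (φ g)⁻¹ ∈ img Z
    rw [← hn, ← map_inv, ← map_mul, ← map_mul]
    refine Subgroup.mem_map_of_mem φ ?_
    show (n : G) * z * (n : G)⁻¹ ∈ Z
    rw [← hZ n n.2 hnX]
    exact ⟨z, hz, rfl⟩
  have hnormW : ∀ n : G, n • x = x → (∀ a ∈ X, n * a * n⁻¹ ∈ X) →
      W.map (MulAut.conj n).toMonoidHom = W := by
    intro n hn hna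
    show (⁅C, C⁆ : Subgroup G).map _ = ⁅C, C⁆
    rw [Subgroup.map_commutator, hnormC n hn hna]
  have himg_le : ∀ Z : Subgroup G, img Z ≤ S.lineGroup x := by
    rintro Z _ ⟨z, -, rfl⟩
    exact ⟨z, rfl⟩
  have himgC : img C ≠ ⊥ := by
    intro h0
    have hle : P ≤ S.Ker x := fun q hq => by
      rw [S.mem_Ker_iff (⟨q, hPx hq⟩ : stabilizer G x)]
      exact Subgroup.mem_bot.1 (h0 ▸ Subgroup.mem_map_of_mem φ
        (show (⟨q, hPx hq⟩ : stabilizer G x) ∈ C.subgroupOf (stabilizer G x) from hPC' hq))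
    rw [hX, inf_eq_left.2 hle, hPc] at hXc
    have := S.two_lt
    nlinarith
  have himgW : img W ≠ ⊥ := by
    intro h0
    have hW1 : ∀ w ∈ W, w = 1 := fun w hw => hWKer w hw (by
      rw [S.mem_Ker_iff (⟨w, hCx (hWC hw)⟩ : stabilizer G x)]
      exact Subgroup.mem_bot.1 (h0 ▸ Subgroup.mem_map_of_mem φ
        (show (⟨w, hCx (hWC hw)⟩ : stabilizer G x) ∈ W.subgroupOf (stabilizer G x) from hw)))
    refine hSR (S.SR_of_SRG (sr_of_normal_sr S.hp (S.card_Ln x) S.lineGroup_trans (himg_le C)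
      (himg_norm C hnormC) himgC ?_))
    rintro h hh i j - hi -
    obtain ⟨c, hc, rfl⟩ := hh
    have htC := normal_transitive (S.prime_Ln x) S.lineGroup_trans (img C) (himg_norm C hnormC) himgC
    refine Equiv.ext fun k => ?_
    obtain ⟨m, ⟨d, hd, rfl⟩, rfl⟩ := htC i k
    have hcd : c * d = d * c := by
      refine Subtype.ext ?_
      have h1 := hW1 _ (Subgroup.commutator_mem_commutator (show (c : G) ∈ C from hc) (show (d : G) ∈ C from hd))
      rwa [commutatorElement_eq_one_iff_mul_comm] at h1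
    have h2 := congrArg (fun u => φ u i) hcd
    simp only [map_mul, Equiv.Perm.mul_apply] at h2
    rw [h2, hi]
    rfl
  have htrW : ∀ i j, ∃ h ∈ img W, h i = j :=
    normal_transitive (S.prime_Ln x) S.lineGroup_trans (img W) (himg_norm W hnormW) himgW
  have htwoW : ∀ i j k, j ≠ i → k ≠ i → ∃ h ∈ img W, h i = i ∧ h j = k := by
    rcases sr_or_two_trans (S.prime_Ln x) htrW with h | h
    · exact absurd (S.SR_of_SRG (sr_of_normal_sr S.hp (S.card_Ln x) S.lineGroup_trans (himg_le W)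
        (himg_norm W hnormW) himgW h)) hSR
    · exact h
  -- lifts
  have hliftW : ∀ h ∈ img W, ∃ w ∈ W, ∀ u, (hu : u ≠ x) → ∀ v, (hv : v ≠ x) →
      h (S.ln x u hu) = S.ln x v hv → S.L x (w • u) = S.L x v := by
    rintro _ ⟨w, hw, rfl⟩
    refine ⟨w, hw, fun u hu v hv he => ?_⟩
    change w • S.ln x u hu = _ at he
    rw [S.smul_ln, S.ln_eq] at he
    exact he
  -- elements of W fixing the line of y fix y
  have hfixy : ∀ w ∈ W, S.L x (w • y) = S.L x y → w • y = y := by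
    intro w hw he
    have hwC := (hC w).1 (hWC hw)
    obtain ⟨a, ha, hay⟩ := S.X_trans hXK hXc hy (smul_ne_of_fix hwC.1 hy) he.symm
    have hpow : ∀ i : ℕ, (w ^ i) • y = (a ^ i) • y := by
      intro i
      induction i with
      | zero => simp
      | succ i ih =>
        rw [pow_succ', mul_smul, ih, smul_smul,
          ((show Commute w a from hwC.2 a ha).pow_right i).eq, mul_smul, ← hay, smul_smul,
          ← pow_succ]
    let w' : stabilizer G x := ⟨w, hwC.1⟩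
    have hfixln : φ w' (S.ln x y hy) = S.ln x y hy := by
      show w' • S.ln x y hy = _
      rw [S.smul_ln, S.ln_eq]
      exact he
    have hnd := not_dvd_order_of_fix S.hp (S.card_Ln x) hfixln
    set m := orderOf (φ w')
    have hwm : w ^ m = 1 := hWKer _ (W.pow_mem hw m) (by
      rw [show w ^ m = ((w' ^ m : stabilizer G x) : G) from rfl, S.mem_Ker_iff, map_pow,
        pow_orderOf_eq_one])
    have ham : a ^ m = 1 := hfree _ (pow_mem ha.1 m) y hy (by rw [← hpow, hwm, one_smul])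
    have ha1 : a = 1 := by
      have h1 : orderOf a ∣ m := orderOf_dvd_of_pow_eq_one ham
      have h2 : orderOf a ∣ p := orderOf_dvd_of_pow_eq_one (S.pow_eq_one_of_mem hXc ha)
      rw [← orderOf_eq_one_iff]
      rcases S.hp.eq_one_or_self_of_dvd _ h2 with h | h
      · exact h
      · exact absurd (h ▸ h1) hnd
    rw [← hay, ha1, one_smul]
  let O : Ω → Prop := fun u => ∃ w ∈ W, w • y = u
  have hOx : ∀ u, O u → u ≠ x := by
    rintro u ⟨w, hw, rfl⟩
    exact smul_ne_of_fix (hCx (hWC hw)) hy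
  have hOuniq : ∀ u v, O u → O v → S.L x u = S.L x v → u = v := by
    rintro u v ⟨w, hw, rfl⟩ ⟨w', hw', rfl⟩ he
    have hwx := hCx (hWC hw)
    have hwx' := hCx (hWC hw')
    have h1 := hfixy (w'⁻¹ * w) (W.mul_mem (W.inv_mem hw') hw) (by
      have := S.L_congr_fix (inv_smul_eq_self hwx') (Ne.symm (smul_ne_of_fix hwx hy))
        (Ne.symm (smul_ne_of_fix hwx' hy)) he
      rwa [inv_smul_smul, smul_smul] at this)
    rwa [mul_smul, inv_smul_eq_iff] at h1
  have hOsmul : ∀ w ∈ W, ∀ u, O u → O (w • u) := by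
    rintro w hw u ⟨w', hw', rfl⟩
    exact ⟨w * w', W.mul_mem hw hw', mul_smul w w' y⟩
  have hOex : ∀ z, z ≠ x → ∃ u, O u ∧ S.L x u = S.L x z := by
    intro z hz
    obtain ⟨h, hh, he⟩ := htrW (S.ln x y hy) (S.ln x z hz)
    obtain ⟨w, hw, hwl⟩ := hliftW h hh
    exact ⟨w • y, ⟨w, hw, rfl⟩, hwl y hy z hz he⟩
  let D : Ω → Ω → G → Prop := fun u v a => a ∈ X ∧ ∃ k ∈ S.Ker x, k • u = u ∧ k • v = a • v
  have hDw : ∀ w ∈ W, ∀ u v a, D u v a → D (w • u) (w • v) a := by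
    rintro w hw u v a ⟨ha, k, hk, hku, hkv⟩
    have hwC := (hC w).1 (hWC hw)
    refine ⟨ha, w * k * w⁻¹, S.conj_Ker_fix hk hwC.1, by rw [conj_smul, hku], ?_⟩
    rw [conj_smul, hkv, smul_smul, hwC.2 a ha, mul_smul]
  have hDconst : ∀ u v u' v' a, O u → O v → O u' → O v' → S.L x u ≠ S.L x v →
      S.L x u' ≠ S.L x v' → D u v a → D u' v' a := by
    intro u v u' v' a hu hv hu' hv' hne hne' hD
    obtain ⟨h1, hh1, he1⟩ := htrW (S.ln x u (hOx u hu)) (S.ln x u' (hOx u' hu'))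
    obtain ⟨h2, hh2, he2, he3⟩ := htwoW (S.ln x u' (hOx u' hu')) (h1 (S.ln x v (hOx v hv)))
      (S.ln x v' (hOx v' hv'))
      (fun e => hne (S.ln_eq.1 (h1.injective (he1.trans e.symm))))
      (fun e => hne' (S.ln_eq.1 e.symm))
    obtain ⟨w, hw, hwl⟩ := hliftW (h2 * h1) ((img W).mul_mem hh2 hh1)
    have e1 : w • u = u' := hOuniq _ _ (hOsmul w hw u hu) hu' (hwl u (hOx u hu) u' (hOx u' hu')
      (by rw [Equiv.Perm.mul_apply, he1, he2]))
    have e2 : w • v = v' := hOuniq _ _ (hOsmul w hw v hv) hv' (hwl v (hOx v hv) v' (hOx v' hv')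
      (by rw [Equiv.Perm.mul_apply, he3]))
    exact e1 ▸ e2 ▸ hDw w hw u v a hD
  obtain ⟨c₀, hc₀, hc₀ne⟩ := S.exists_other_line hy
  obtain ⟨c, hcO, hcL⟩ := hOex c₀ hc₀
  have hyO : O y := ⟨1, W.one_mem, one_smul G y⟩
  have hcx : c ≠ x := hOx c hcO
  have hcy : S.L x c ≠ S.L x y := fun e => hc₀ne (hcL.symm.trans e)
  -- the set D is symmetric
  have hDinv : ∀ a, D y c a → D y c a⁻¹ := by
    rintro a ⟨ha, k, hk, hky, hkc⟩
    refine hDconst c y y c a⁻¹ hcO hyO hyO hcO hcy (Ne.symm hcy) ?_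
    refine ⟨X.inv_mem ha, a⁻¹ * k, (S.Ker x).mul_mem ((S.Ker x).inv_mem (hXK ha)) hk, ?_, ?_⟩
    · rw [mul_smul, hkc, inv_smul_smul]
    · rw [mul_smul, hky]
  haveI : IsCyclic X := isCyclic_of_prime_card hXc
  letI : CommGroup X := IsCyclic.commGroup
  haveI : Fintype X := Fintype.ofFinite _
  let Ds : Finset X := Finset.univ.filter fun a => D y c (a : G)
  have hDs : ∀ a : X, a ∈ Ds ↔ D y c (a : G) := fun a => by simp [Ds]
  have h1D : (1 : X) ∈ Ds := (hDs 1).2 ⟨X.one_mem, 1, (S.Ker x).one_mem, one_smul G y,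
    show (1 : G) • c = (1 : G) • c from rfl⟩
  have hinvD : ∀ a : X, a ∈ Ds → a⁻¹ ∈ Ds := fun a ha => (hDs _).2 (hDinv _ ((hDs a).1 ha))
  let r : X → Finset X := fun g => Ds.filter fun d => g⁻¹ * d ∈ Ds
  have hrle : ∀ g h : X, g ≠ 1 → h ≠ 1 → (r g).card ≤ (r h).card := by
    intro g h hg hh
    have hgy : ∀ b : X, b ≠ 1 → (b : G) • y ≠ y := fun b hb e =>
      hb (Subtype.ext (hfree _ b.2.1 y hy e))
    have hline : ∀ b : X, S.L x ((b : G) • y) = S.L x y := fun b => b.2.2.2 y hy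
    have hby : ∀ b : X, (b : G) • y ≠ x := fun b => smul_ne_of_fix b.2.2.1 hy
    obtain ⟨k, hk, hky, hkg⟩ := S.two_trans hPC hy (hby g) (hby h) (hgy g hg) (hgy h hh)
      (hline g) (hline h)
    have hex : ∀ d : X, ∃ d' : X, (d' : G) • c = k • (d : G) • c := by
      intro d
      have hdc : (d : G) • c ≠ x := smul_ne_of_fix d.2.2.1 hcx
      obtain ⟨a, ha, he⟩ := S.X_trans hXK hXc hcx (smul_ne_of_fix hk.1 hdc)
        ((hk.2 _ hdc).trans (d.2.2.2 c hcx)).symm
      exact ⟨⟨a, ha⟩, he⟩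
    choose f hf using hex
    refine Finset.card_le_card_of_injOn f (fun d hd => ?_) (fun d _ e _ he => ?_)
    · simp only [r, Finset.coe_filter, Set.mem_setOf_eq, hDs] at hd ⊢
      obtain ⟨⟨-, k₁, hk₁, hk₁y, hk₁c⟩, -, k₂, hk₂, hk₂y, hk₂c⟩ := hd
      refine ⟨⟨(f d).2, k * k₁, (S.Ker x).mul_mem hk hk₁, by rw [mul_smul, hk₁y, hky], ?_⟩,
        (h⁻¹ * f d).2, (h : G)⁻¹ * k * (g : G) * k₂, (S.Ker x).mul_mem ((S.Ker x).mul_mem
          ((S.Ker x).mul_mem ((S.Ker x).inv_mem h.2.2) hk) g.2.2) hk₂, ?_, ?_⟩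
      · rw [mul_smul, hk₁c, hf]
      · rw [mul_smul, mul_smul, mul_smul, hk₂y, hkg, inv_smul_smul]
      · rw [mul_smul, mul_smul, mul_smul, hk₂c, Subgroup.coe_mul, Subgroup.coe_inv, mul_smul,
          smul_inv_smul, Subgroup.coe_mul, Subgroup.coe_inv, mul_smul, hf]
    · have h1 := hf d
      rw [he, hf e] at h1
      have h2 : (d : G) • c = (e : G) • c := (smul_left_cancel k h1).symm
      have h3 : ((e : G)⁻¹ * d) • c = c := by rw [mul_smul, h2, inv_smul_smul]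
      exact Subtype.ext (inv_mul_eq_one.1 (hfree _
        (P.mul_mem (P.inv_mem e.2.1) d.2.1) c hcx h3)).symm
  have hrpar : ∀ g : X, ((r g).card : ZMod 2) = ((r g).filter fun d => d * d = g).card := by
    intro g
    rw [card_fixed_mod_two (r g) (fun d => g * d⁻¹)]
    · congr 2
      refine Finset.filter_congr fun d _ => ?_
      rw [mul_inv_eq_iff_eq_mul, eq_comm]
    · intro d hd
      simp only [r, Finset.mem_filter] at hd ⊢
      refine ⟨?_, by rw [inv_mul_cancel_left]; exact hinvD d hd.1⟩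
      have := hinvD _ hd.2
      rwa [mul_inv_rev, inv_inv, mul_comm] at this
    · intro d _
      rw [mul_inv_rev, inv_inv, mul_comm, mul_assoc, inv_mul_cancel, mul_one]
  have hsq : ∀ d e : X, d * d = e * e → d = e := by
    intro d e h
    refine (powCoprime (G := X) (n := 2) (hXc.symm ▸ (Nat.coprime_two_right.2 S.odd))).injective ?_
    simp only [powCoprime_apply, pow_two, h]
  refine ⟨c, hcx, hcy, fun k hk => ?_⟩
  obtain ⟨a, ha, hak⟩ := S.X_trans hXK hXc hcx (smul_ne_of_fix hk.1.1 hcx) (hk.1.2 c hcx).symm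
  have haD : (⟨a, ha⟩ : X) ∈ Ds := (hDs _).2 ⟨ha, k, hk.1, hk.2, hak.symm⟩
  by_cases ha1 : (⟨a, ha⟩ : X) = 1
  · rw [← hak, show a = 1 from congrArg Subtype.val ha1, one_smul]
  exfalso
  set d₀ : X := ⟨a, ha⟩
  obtain ⟨e, he⟩ : ∃ e : X, e ∉ Ds := by
    by_contra hall
    push Not at hall
    obtain ⟨v', hv'x, hv'L, hv'⟩ := S.not_trans_pairs hPC hy hcx
    obtain ⟨b, hb, hbc⟩ := S.X_trans hXK hXc hcx hv'x hv'L.symm
    obtain ⟨-, k', hk', hk'y, hk'c⟩ := (hDs _).1 (hall ⟨b, hb⟩)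
    exact hv' k' hk' hk'y (hk'c.trans hbc)
  have he1 : e ≠ 1 := fun h => he (h ▸ h1D)
  have hg1 : d₀ * d₀ ≠ 1 := fun h => ha1 (hsq d₀ 1 (by rwa [mul_one]))
  have hg2 : e * e ≠ 1 := fun h => he1 (hsq e 1 (by rwa [mul_one]))
  have hcardeq : (r (d₀ * d₀)).card = (r (e * e)).card :=
    le_antisymm (hrle _ _ hg1 hg2) (hrle _ _ hg2 hg1)
  have hA : ((r (d₀ * d₀)).filter fun d => d * d = d₀ * d₀) = {d₀} := by
    ext d
    simp only [r, Finset.mem_filter, Finset.mem_singleton]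
    constructor
    · exact fun h => hsq d d₀ h.2
    · rintro rfl
      exact ⟨⟨haD, by rw [mul_inv_rev, inv_mul_cancel_right]; exact hinvD _ haD⟩, rfl⟩
  have hB : ((r (e * e)).filter fun d => d * d = e * e) = ∅ := by
    refine Finset.filter_eq_empty_iff.2 fun d hd h => he ?_
    rw [← hsq d e h]
    exact (Finset.mem_filter.1 hd).1
  have h1 := hrpar (d₀ * d₀)
  rw [hcardeq, hrpar (e * e), hA, hB] at h1
  simp at h1

theorem caseB (hPC : ∀ x, ¬ S.PC x) : False := by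
  classical
  obtain ⟨a, b, hab⟩ : ∃ a b : Ω, a ≠ b :=
    Fintype.one_lt_card_iff.1 (by rw [S.hcard]; have := S.hp.two_le; nlinarith)
  have hcard : ∀ x y : Ω, x ≠ y → Nat.card (S.Ky y x) = Nat.card (S.Ky x y) := by
    intro x y hxy
    obtain ⟨g, hg1, hg2⟩ := S.trans2 x y y x hxy (Ne.symm hxy)
    have h1 := S.Ky_smul g x y
    rw [hg1, hg2] at h1
    rw [h1, Subgroup.card_map_of_injective (MulAut.conj g).injective]
  by_cases h : ∃ x y : Ω, x ≠ y ∧ S.Ky x y ≤ S.Ker y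
  · refine S.caseB_eq hPC fun u v huv => ?_
    obtain ⟨x, y, hxy, hle⟩ := h
    obtain ⟨g, rfl, rfl⟩ := S.trans2 x y u v hxy huv
    rw [S.Ky_smul g x y, S.Ky_smul g y x, Subgroup.eq_of_le_of_card_ge
      (fun k hk => (⟨hle hk, hk.1.1⟩ : k ∈ S.Ky y x)) (hcard x y hxy).le]
  push Not at h
  have heqv : S.Eqv a b := by
    by_cases hSR : S.SR a
    · obtain ⟨g, hg, -⟩ := S.trans2 a b b a hab (Ne.symm hab)
      exact S.eqv_of_SR (hPC a) (Ne.symm hab) (h a b hab) (hg ▸ S.SR_smul hSR g)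
    · exact S.eqv_of_not_SR (hPC a) (Ne.symm hab) hSR
  obtain ⟨T, hT, hTc, hTg⟩ := S.exists_T (hPC a) (Ne.symm hab) heqv
  have hTL : T = S.L b a := Finset.eq_of_subset_of_card_le
    (fun w hw => S.exists_Ky_fix a b (Ne.symm hab) (h a b hab) ((hT w).1 hw))
    (by rw [hTc, S.cardL b a (Ne.symm hab)])
  have hkey : ∀ c ∈ T, c ≠ a → S.L c a = T := by
    intro c hc hca
    obtain ⟨g, hg, hgb⟩ := S.trans2 a b a c hab (Ne.symm hca)
    have e := S.L_smul_eq g (Ne.symm hab)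
    rw [hg, hgb] at e
    rw [e, ← hTL]
    ext w
    simp only [Finset.mem_map, Function.Embedding.coeFn_mk]
    constructor
    · rintro ⟨u, hu, rfl⟩
      exact ((hTg c hc hca).2 g hg hgb u).2 hu
    · intro hw
      refine ⟨g⁻¹ • w, ((hTg c hc hca).2 g hg hgb _).1 ?_, smul_inv_smul g w⟩
      rwa [smul_inv_smul]
  obtain ⟨c, hc, hca, hcb⟩ : ∃ c ∈ T, c ≠ a ∧ c ≠ b := by
    by_contra hcon
    push Not at hcon
    have hsub : T ⊆ {a, b} := fun c hc => by
      simp only [Finset.mem_insert, Finset.mem_singleton]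
      by_cases h : c = a
      · exact .inl h
      · exact .inr (hcon c hc h)
    have := (Finset.card_le_card hsub).trans Finset.card_le_two
    rw [hTc] at this
    have := S.two_lt
    omega
  have e1 : S.L b c = T := by
    rw [hTL] at hc ⊢
    exact S.eqL b a c (Ne.symm hab) hc hcb
  have e2 : S.L c b = T := by
    have hb : b ∈ T := (hT b).2 fun k hk => hk.2
    rw [S.eqL c a b hca ((hkey c hc hca).symm ▸ hb) (Ne.symm hcb), hkey c hc hca]
  exact S.asym (Ne.symm hcb) (e1.trans e2.symm)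

end Sys

end CfsgLib.DoublyPrim
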