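import Cfsg.Agent.Lib.DoublyPrim.CaseBEnd

/-!
A 2-transitive group of degree `p² + 1` is doubly primitive, or has degree five and order twenty.
-/

set_option autoImplicit false
set_option linter.unusedSectionVars false
set_option linter.style.haveILetI false

namespace CfsgLib.DoublyPrim

open MulAction
open scoped Pointwise

variable {G Ω : Type*} [Group G] [Finite G] [Fintype Ω] [MulAction G Ω] [FaithfulSMul G Ω] {p : ℕ}

theorem Sys.contra [DecidableEq Ω] (S : Sys G Ω p) : False := by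
  by_cases h : ∀ x, S.PC x
  · exact S.caseA h
  push Not at h
  obtain ⟨x₀, hx₀⟩ := h
  refine S.caseB fun x hx => ?_
  by_cases he : x = x₀
  · exact hx₀ (he ▸ hx)
  obtain ⟨g, hg, -⟩ := S.trans2 x x₀ x₀ x he (Ne.symm he)
  exact hx₀ (hg ▸ S.PC_smul hx g)

theorem card_twenty (h2 : ∀ a b c d : Ω, a ≠ b → c ≠ d → ∃ g : G, g • a = c ∧ g • b = d)
    (hΩ : Fintype.card Ω = 5) {a b b' : Ω} (hb : b ≠ a) (hb' : b' ≠ a) (hbb' : b' ≠ b)
    (hfix : ∀ g ∈ St2 G a b, g • b' = b') : Nat.card G = 20 := by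
  classical
  haveI : Fintype G := Fintype.ofFinite G
  haveI := Fact.mk (show Nat.Prime 5 by norm_num)
  haveI : IsPretransitive G Ω := ⟨fun u v => by
    by_cases huv : u = v
    · exact ⟨1, by rw [one_smul, huv]⟩
    · obtain ⟨g, hg, -⟩ := h2 u v v u huv (Ne.symm huv)
      exact ⟨g, hg⟩⟩
  have hG : Nat.card G = 5 * Nat.card (stabilizer G a) := by
    rw [← (stabilizer G a).index_mul_card, index_stabilizer_of_transitive,
      Nat.card_eq_fintype_card (α := Ω), hΩ]
  have horb : orbit (stabilizer G a) b = ({a}ᶜ : Set Ω) := by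
    ext z
    constructor
    · rintro ⟨⟨g, hg⟩, rfl⟩
      exact smul_ne_of_fix hg hb
    · intro hz
      obtain ⟨g, hg, hgb⟩ := h2 a b a z (Ne.symm hb) (Ne.symm hz)
      exact ⟨⟨g, hg⟩, hgb⟩
  have hGa : Nat.card (stabilizer G a) = 4 * Nat.card (St2 G a b) := by
    have h := card_orbit_subgroup (stabilizer G a) b
    rw [Nat.card_coe_set_eq, horb, Set.ncard_compl, Set.ncard_singleton,
      Nat.card_eq_fintype_card (α := Ω), hΩ] at h
    exact h.symm
  have hs2 : ((({a, b, b'} : Finset Ω))ᶜ).card = 2 := by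
    rw [Finset.card_compl, hΩ, Finset.card_insert_of_notMem (by simp [Ne.symm hb, Ne.symm hb']),
      Finset.card_pair (Ne.symm hbb')]
  obtain ⟨c, d, hcd, hcd'⟩ := Finset.card_eq_two.1 hs2
  have hmem : ∀ z, z ≠ a → z ≠ b → z ≠ b' → z = c ∨ z = d := by
    intro z h1 h2 h3
    have : z ∈ (({a, b, b'} : Finset Ω))ᶜ := by simp [h1, h2, h3]
    rw [hcd'] at this
    simpa using this
  have hc : c ∈ (({a, b, b'} : Finset Ω))ᶜ := by rw [hcd']; simp
  simp only [Finset.mem_compl, Finset.mem_insert, Finset.mem_singleton, not_or] at hc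
  have hd : d ∈ (({a, b, b'} : Finset Ω))ᶜ := by rw [hcd']; simp
  simp only [Finset.mem_compl, Finset.mem_insert, Finset.mem_singleton, not_or] at hd
  have hle : Nat.card (St2 G a b) ≤ 2 := by
    have hmaps : ∀ g : St2 G a b, (g : G) • c ∈ ({c, d} : Finset Ω) := by
      intro g
      simp only [Finset.mem_insert, Finset.mem_singleton]
      exact hmem _ (smul_ne_of_fix g.2.1 hc.1) (smul_ne_of_fix g.2.2 hc.2.1)
        (smul_ne_of_fix (hfix g g.2) hc.2.2)
    have hinj : Function.Injective fun g : St2 G a b => (⟨(g : G) • c, hmaps g⟩ : ({c, d} : Finset Ω)) := by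
      intro g h e
      have e' : (g : G) • c = (h : G) • c := congrArg Subtype.val e
      set u : G := (h : G)⁻¹ * g with hu
      have huS : u ∈ St2 G a b := (St2 G a b).mul_mem ((St2 G a b).inv_mem h.2) g.2
      have huc : u • c = c := by rw [hu, mul_smul, e', inv_smul_smul]
      have hud : u • d = d := by
        rcases hmem (u • d) (smul_ne_of_fix huS.1 hd.1) (smul_ne_of_fix huS.2 hd.2.1)
          (smul_ne_of_fix (hfix u huS) hd.2.2) with h1 | h1
        · exact absurd (smul_left_cancel u (h1.trans huc.symm)) (Ne.symm hcd)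
        · exact h1
      have hu1 : u = 1 := eq_one_of_forall (Ω := Ω) fun z => by
        by_cases hza : z = a
        · exact hza ▸ huS.1
        by_cases hzb : z = b
        · exact hzb ▸ huS.2
        by_cases hzb' : z = b'
        · exact hzb' ▸ hfix u huS
        rcases hmem z hza hzb hzb' with rfl | rfl
        · exact huc
        · exact hud
      exact Subtype.ext (inv_mul_eq_one.1 hu1).symm
    refine (Nat.card_le_card_of_injective _ hinj).trans ?_
    rw [Nat.card_eq_fintype_card, Fintype.card_coe]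
    exact Finset.card_le_two
  have hpos : 0 < Nat.card (St2 G a b) := Nat.card_pos
  by_contra hne
  have hG40 : Nat.card G = 5 * 8 := by omega
  obtain ⟨Q⟩ : Nonempty (Sylow 5 G) := inferInstance
  have hQc : Nat.card Q = 5 := by
    rw [Sylow.card_eq_multiplicity, hG40, Nat.factorization_mul (by norm_num) (by norm_num)]
    have h8 : Nat.factorization 8 5 = 0 := Nat.factorization_eq_zero_of_not_dvd (by norm_num)
    simp [h8, Nat.Prime.factorization_self (show Nat.Prime 5 by norm_num)]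
  have hn5 : Nat.card (Sylow 5 G) = 1 := by
    have h1 := card_sylow_modEq_one 5 G
    have h2 : Nat.card (Sylow 5 G) ∣ 8 := by
      have h3 := Q.card_dvd_index
      have h4 : (Q : Subgroup G).index = 8 := by
        have := (Q : Subgroup G).card_mul_index
        rw [hQc, hG40] at this
        omega
      rwa [h4] at h3
    have h5 := Nat.le_of_dvd (by norm_num) h2
    rw [Nat.ModEq] at h1
    interval_cases h : Nat.card (Sylow 5 G) <;> omega
  haveI : Subsingleton (Sylow 5 G) := (Nat.card_eq_one_iff_unique.1 hn5).1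
  haveI : (Q : Subgroup G).Normal := Sylow.normal_of_subsingleton Q
  haveI : IsCyclic Q := isCyclic_of_prime_card hQc
  obtain ⟨⟨t, ht⟩, ht1⟩ : ∃ t : Q, t ≠ 1 := by
    haveI : Nontrivial Q := Finite.one_lt_card_iff_nontrivial.1 (by rw [hQc]; norm_num)
    exact exists_ne 1
  have htne : t ≠ 1 := fun e => ht1 (Subtype.ext e)
  have hQorb : ∀ z, ∃ q ∈ (Q : Subgroup G), q • a = z := by
    have hc := card_orbit_subgroup (Q : Subgroup G) a
    have hfree : (Q : Subgroup G) ⊓ stabilizer G a = ⊥ := by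
      refine (Subgroup.eq_bot_iff_forall _).2 fun u hu => ?_
      have h1 : orderOf u ∣ 5 := hQc ▸ Subgroup.orderOf_dvd_natCard _ hu.1
      have h2 : orderOf u ∣ Nat.card (stabilizer G a) := Subgroup.orderOf_dvd_natCard _ hu.2
      rw [show Nat.card (stabilizer G a) = 8 by omega] at h2
      exact orderOf_eq_one_iff.1 (Nat.dvd_one.1 (Nat.dvd_gcd h1 h2))
    rw [hfree, Subgroup.card_bot, mul_one, hQc, Nat.card_coe_set_eq] at hc
    have he : orbit (Q : Subgroup G) a = Set.univ := Set.eq_of_subset_of_ncard_le (Set.subset_univ _)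
      (by rw [Set.ncard_univ, Nat.card_eq_fintype_card, hΩ, hc]) Set.finite_univ
    intro z
    obtain ⟨⟨q, hq⟩, hqz⟩ : z ∈ orbit (Q : Subgroup G) a := he ▸ Set.mem_univ z
    exact ⟨q, hq, hqz⟩
  let e : Option (stabilizer G a) → Q := fun o => o.elim 1 fun g =>
    ⟨(g : G) * t * (g : G)⁻¹, ‹(Q : Subgroup G).Normal›.conj_mem t ht g⟩
  have hne' : ∀ g : stabilizer G a, e (some g) ≠ 1 := fun g he =>
    htne (conj_eq_one_iff.1 (congrArg Subtype.val he))
  have hei : Function.Injective e := by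
    rintro (_ | u) (_ | v) huv
    · rfl
    · exact absurd huv.symm (hne' v)
    · exact absurd huv (hne' u)
    · have h' : (u : G) * t * (u : G)⁻¹ = v * t * (v : G)⁻¹ := congrArg Subtype.val huv
      have hct : Commute ((v : G)⁻¹ * u) t := by
        show (v : G)⁻¹ * u * t = t * ((v : G)⁻¹ * u)
        calc (v : G)⁻¹ * u * t = (v : G)⁻¹ * (u * t * (u : G)⁻¹) * u := by group
          _ = t * ((v : G)⁻¹ * u) := by rw [h']; group
      have hw : (v : G)⁻¹ * u = 1 := eq_one_of_forall (Ω := Ω) fun z => by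
        obtain ⟨q, hq, rfl⟩ := hQorb z
        have hgen := zpowers_eq_top_of_prime_card hQc (g := (⟨t, ht⟩ : Q)) ht1
        obtain ⟨k, hk⟩ := Subgroup.mem_zpowers_iff.1 (hgen ▸ Subgroup.mem_top (⟨q, hq⟩ : Q))
        have hk' : t ^ k = q := congrArg Subtype.val hk
        have hfixa : ((v : G)⁻¹ * u) • a = a := ((stabilizer G a).mul_mem
          ((stabilizer G a).inv_mem v.2) u.2 : (v : G)⁻¹ * u ∈ stabilizer G a)
        rw [smul_smul, ← hk', (hct.zpow_right k).eq, mul_smul, hfixa]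
      exact congrArg some (Subtype.ext (inv_mul_eq_one.1 hw).symm)
  have h9 : Nat.card (stabilizer G a) + 1 ≤ 5 := by
    rw [← hQc, ← Finite.card_option]
    exact Nat.card_le_card_of_injective e hei
  omega

theorem doubly_primitive (hp : p.Prime) (hΩ : Fintype.card Ω = p ^ 2 + 1)
    (h2t : ∀ a b c d : Ω, a ≠ b → c ≠ d → ∃ g : G, g • a = c ∧ g • b = d) (a : Ω) :
    IsPreprimitive ↥(stabilizer G a) ↥(SubMulAction.ofStabilizer G a) ∨
      (p = 2 ∧ Nat.card G = 20) := by
  classical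
  haveI hpre : IsPretransitive ↥(stabilizer G a) ↥(SubMulAction.ofStabilizer G a) := by
    refine ⟨fun u v => ?_⟩
    obtain ⟨g, hg, hgu⟩ := h2t a u a v (Ne.symm u.2) (Ne.symm v.2)
    exact ⟨⟨g, hg⟩, Subtype.ext hgu⟩
  by_cases hprim : IsPreprimitive ↥(stabilizer G a) ↥(SubMulAction.ofStabilizer G a)
  · exact .inl hprim
  right
  obtain ⟨B₀, hB₀, hnt⟩ : ∃ B : Set ↥(SubMulAction.ofStabilizer G a),
      IsBlock ↥(stabilizer G a) B ∧ ¬ IsTrivialBlock B := by
    by_contra hcon
    push Not at hcon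
    exact hprim ⟨fun {B} hB => hcon B hB⟩
  simp only [IsTrivialBlock, not_or, Set.not_subsingleton_iff] at hnt
  obtain ⟨hBnt, hBne⟩ := hnt
  -- a block in `Ω`
  let B : Set Ω := Subtype.val '' B₀
  have hBa : ∀ z ∈ B, z ≠ a := by
    rintro _ ⟨z, -, rfl⟩
    exact z.2
  have hcardB : B.ncard = p := by
    rw [Set.ncard_image_of_injective _ Subtype.val_injective]
    have hd := hB₀.ncard_dvd_card hBnt.nonempty
    have hcs : Nat.card ↥(SubMulAction.ofStabilizer G a) = p ^ 2 := by
      rw [SubMulAction.nat_card_ofStabilizer_eq, Nat.card_eq_fintype_card, hΩ, Nat.add_sub_cancel]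
    rw [hcs] at hd
    obtain ⟨i, hi, he⟩ := (Nat.dvd_prime_pow hp).1 hd
    have h1 : 1 < B₀.ncard := (Set.one_lt_ncard (Set.toFinite _)).2 hBnt
    interval_cases i
    · rw [pow_zero] at he
      omega
    · simpa using he
    · exact absurd (Set.eq_of_subset_of_ncard_le (Set.subset_univ _)
        (by rw [Set.ncard_univ, hcs, he]) Set.finite_univ) hBne
  have hmove : ∀ z, z ≠ a → ∃ g : G, g • a = a ∧ g • z ∈ B := by
    intro z hz
    obtain ⟨b, hb⟩ := hBnt.nonempty
    obtain ⟨g, hg, hgz⟩ := h2t a z a b (Ne.symm hz) (Ne.symm b.2)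
    exact ⟨g, hg, hgz ▸ ⟨b, hb, rfl⟩⟩
  have hblk : ∀ g : G, g • a = a → ∀ u ∈ B, g • u ∈ B → ∀ v ∈ B, g • v ∈ B := by
    rintro g hg _ ⟨u, hu, rfl⟩ ⟨w, hw, hwe⟩ _ ⟨v, hv, rfl⟩
    let g' : stabilizer G a := ⟨g, hg⟩
    have hgu : g' • u ∈ B₀ := (show g' • u = w from Subtype.ext hwe.symm) ▸ hw
    have he : g' • B₀ = B₀ := by
      rcases isBlock_iff_smul_eq_or_disjoint.1 hB₀ g' with h | h
      · exact h
      · exact absurd hgu (Set.disjoint_left.1 h (Set.smul_mem_smul_set hu))
    exact ⟨g' • v, he ▸ Set.smul_mem_smul_set hv, rfl⟩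
  let r : Ω → Ω → Prop := fun y z => ∃ g : G, g • a = a ∧ g • y ∈ B ∧ g • z ∈ B
  have hr_iff : ∀ y z : Ω, ∀ g : G, g • a = a → g • y ∈ B → (r y z ↔ g • z ∈ B) := by
    intro y z g hg hgy
    constructor
    · rintro ⟨h, hh, hhy, hhz⟩
      have := hblk (g * h⁻¹) (by rw [mul_smul, inv_smul_eq_self hh, hg]) (h • y) hhy
        (by rw [mul_smul, inv_smul_smul]; exact hgy) (h • z) hhz
      rwa [mul_smul, inv_smul_smul] at this
    · intro hgz
      exact ⟨g, hg, hgy, hgz⟩
  have hr_ne : ∀ y z, r y z → z ≠ a := by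
    rintro y z ⟨g, hg, -, hgz⟩ rfl
    exact hBa _ hgz hg
  let La : Ω → Finset Ω := fun y => insert a (Finset.univ.filter fun z => r y z)
  have hLa_mem : ∀ y z, z ∈ La y ↔ z = a ∨ r y z := fun y z => by simp [La]
  have hLa_card : ∀ y, y ≠ a → (La y).card = p + 1 := by
    intro y hy
    obtain ⟨g, hg, hgy⟩ := hmove y hy
    rw [Finset.card_insert_of_notMem (fun h => hr_ne y a (Finset.mem_filter.1 h).2 rfl)]
    congr 1
    rw [← hcardB, ← Set.ncard_coe_finset]
    have e : ((Finset.univ.filter fun z => r y z) : Set Ω) = (g • ·) ⁻¹' B := by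
      ext z
      simp [hr_iff y z g hg hgy]
    rw [e, Set.ncard_preimage_of_injective_subset_range (MulAction.injective g)
      (fun z _ => ⟨g⁻¹ • z, smul_inv_smul g z⟩)]
  have hr_smul : ∀ h : G, h • a = a → ∀ y z, r (h • y) (h • z) ↔ r y z := by
    intro h hh y z
    constructor
    · rintro ⟨g, hg, h1, h2⟩
      exact ⟨g * h, by rw [mul_smul, hh, hg], by rwa [mul_smul], by rwa [mul_smul]⟩
    · rintro ⟨g, hg, h1, h2⟩
      exact ⟨g * h⁻¹, by rw [mul_smul, inv_smul_eq_self hh, hg], by rwa [mul_smul, inv_smul_smul],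
        by rwa [mul_smul, inv_smul_smul]⟩
  rcases eq_or_ne p 2 with hp2 | hp2
  · refine ⟨hp2, ?_⟩
    obtain ⟨b, hb⟩ := hBnt.nonempty
    have hbB : (b : Ω) ∈ B := ⟨b, hb, rfl⟩
    obtain ⟨b', hb', hbb'⟩ := Set.exists_ne_of_one_lt_ncard
      (show 1 < B.ncard by rw [hcardB]; exact hp.one_lt) (b : Ω)
    refine card_twenty h2t (by rw [hΩ, hp2]; norm_num) b.2 (hBa b' hb') hbb' fun g hg => ?_
    have hgb' : g • b' ∈ B := hblk g hg.1 (b : Ω) hbB (by rw [hg.2]; exact hbB) b' hb'
    by_contra hne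
    have hne2 : g • b' ≠ (b : Ω) := fun e => hbb' (smul_left_cancel g (e.trans hg.2.symm))
    have hsub : ({(b : Ω), b', g • b'} : Finset Ω).card ≤ B.ncard := by
      rw [← Set.ncard_coe_finset]
      refine Set.ncard_le_ncard (fun u hu => ?_) (Set.toFinite _)
      simp only [Finset.coe_insert, Finset.coe_singleton, Set.mem_insert_iff,
        Set.mem_singleton_iff] at hu
      rcases hu with rfl | rfl | rfl
      · exact hbB
      · exact hb'
      · exact hgb'
    rw [hcardB, hp2, Finset.card_insert_of_notMem (by simp [Ne.symm hbb', Ne.symm hne2]),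
      Finset.card_pair (Ne.symm hne)] at hsub
    omega
  · exfalso
    have hmv : ∀ x : Ω, ∃ g : G, g • a = x := fun x => by
      by_cases hax : a = x
      · exact ⟨1, by rw [one_smul, hax]⟩
      · obtain ⟨g, hg, -⟩ := h2t a x x a hax (Ne.symm hax)
        exact ⟨g, hg⟩
    choose gx hgx using hmv
    have hne : ∀ x y : Ω, x ≠ y → (gx x)⁻¹ • y ≠ a := fun x y h e =>
      h (by rw [← hgx x, ← e, smul_inv_smul])
    let L : Ω → Ω → Finset Ω := fun x y =>
      Finset.univ.filter fun z => (gx x)⁻¹ • z ∈ La ((gx x)⁻¹ • y)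
    have hL : ∀ x y z, z ∈ L x y ↔ (gx x)⁻¹ • z ∈ La ((gx x)⁻¹ • y) := fun x y z => by simp [L]
    refine Sys.contra (G := G) (Ω := Ω) (p := p)
      ⟨hp, hp2, hΩ, h2t, L, fun x y hxy => ⟨?_, ?_⟩, fun x y hxy => ?_, fun x y z hxy hz hzx => ?_,
        fun g x y z hxy => ?_⟩
    · rw [hL, hLa_mem]
      exact .inl (inv_smul_eq_iff.2 (hgx x).symm)
    · rw [hL, hLa_mem]
      obtain ⟨g, hg, hgy⟩ := hmove _ (hne x y hxy)
      exact .inr ⟨g, hg, hgy, hgy⟩
    · rw [← hLa_card _ (hne x y hxy)]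
      refine Finset.card_bij (fun z _ => (gx x)⁻¹ • z) (fun z hz => (hL x y z).1 hz)
        (fun _ _ _ _ h => smul_left_cancel _ h) fun z hz => ⟨gx x • z, ?_, inv_smul_smul _ z⟩
      rw [hL, inv_smul_smul]
      exact hz
    · rw [hL, hLa_mem] at hz
      rcases hz with hz | ⟨g, hg, h1, h2⟩
      · exact absurd hz (hne x z (Ne.symm hzx))
      · ext w
        simp only [hL, hLa_mem, hr_iff _ _ g hg h1, hr_iff _ _ g hg h2]
    · set h := (gx (g • x))⁻¹ * g * gx x with hh
      have hha : h • a = a := by rw [hh, mul_smul, mul_smul, hgx x, inv_smul_eq_iff, hgx]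
      have hw : ∀ w : Ω, (gx (g • x))⁻¹ • g • w = h • (gx x)⁻¹ • w := fun w => by
        rw [hh, mul_smul, mul_smul, smul_inv_smul]
      simp only [hL, hLa_mem, hw, hr_smul h hha]
      refine or_congr ⟨fun e => smul_left_cancel h (e.trans hha.symm), fun e => by rw [e, hha]⟩ Iff.rfl

end CfsgLib.DoublyPrim
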