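import Cfsg.Agent.Lib.DoublyPrim.Basic

/-!
A 2-transitive group on `p² + 1` points with a block system in each point stabilizer.
-/

set_option autoImplicit false
set_option linter.unusedSectionVars false
set_option linter.style.haveILetI false

namespace CfsgLib.DoublyPrim

open MulAction
open scoped Pointwise

theorem mem_normalizer_of_conj {G : Type*} [Group G] [Finite G] {Q : Subgroup G} {k : G}
    (h : ∀ q ∈ Q, k * q * k⁻¹ ∈ Q) : k ∈ Subgroup.normalizer (Q : Set G) := by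
  have hle : Q.map (MulAut.conj k).toMonoidHom ≤ Q := by
    rintro _ ⟨q, hq, rfl⟩
    exact h q hq
  have heq : Q.map (MulAut.conj k).toMonoidHom = Q :=
    Subgroup.eq_of_le_of_card_ge hle
      (by rw [Subgroup.card_map_of_injective (MulAut.conj k).injective])
  refine Subgroup.mem_normalizer_iff.2 fun q => ⟨h q, fun hq => ?_⟩
  rw [← heq] at hq
  obtain ⟨r, hr, he⟩ := hq
  have : r = q := (MulAut.conj k).injective he
  exact this ▸ hr

theorem conj_mem_of_index_prime {G : Type*} [Group G] [Finite G] {p : ℕ} (hp : p.Prime)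
    {A B : Subgroup G} (hAB : A ≤ B) (hB : IsPGroup p B) (hc : Nat.card B = p * Nat.card A) :
    ∀ b ∈ B, ∀ a ∈ A, b * a * b⁻¹ ∈ A := by
  haveI := Fact.mk hp
  have hidx : (A.subgroupOf B).index = p := by
    have h := (A.subgroupOf B).card_mul_index
    rw [Nat.card_congr (Subgroup.subgroupOfEquivOfLe hAB).toEquiv, hc] at h
    have hpos : 0 < Nat.card A := Nat.card_pos
    rw [mul_comm p] at h
    exact Nat.eq_of_mul_eq_mul_left hpos h
  obtain ⟨n, hn⟩ := IsPGroup.iff_card.1 hB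
  have hn0 : n ≠ 0 := by
    rintro rfl
    rw [hc, pow_zero] at hn
    exact hp.one_lt.ne' (Nat.eq_one_of_mul_eq_one_right hn)
  haveI : (A.subgroupOf B).Normal := Subgroup.normal_of_index_eq_minFac_card
    (by rw [hidx, hn, Nat.Prime.pow_minFac hp hn0])
  intro b hb a ha
  exact (‹(A.subgroupOf B).Normal›.conj_mem ⟨a, hAB ha⟩ ha ⟨b, hb⟩ :)

variable (G Ω : Type*) [Group G] [Finite G] [Fintype Ω] [DecidableEq Ω] [MulAction G Ω]
  [FaithfulSMul G Ω]

/-- A system of lines through the points, invariant under a 2-transitive group. -/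
structure Sys (p : ℕ) where
  hp : p.Prime
  hp2 : p ≠ 2
  hcard : Fintype.card Ω = p ^ 2 + 1
  trans2 : ∀ a b c d : Ω, a ≠ b → c ≠ d → ∃ g : G, g • a = c ∧ g • b = d
  L : Ω → Ω → Finset Ω
  mem : ∀ x y, x ≠ y → x ∈ L x y ∧ y ∈ L x y
  cardL : ∀ x y, x ≠ y → (L x y).card = p + 1
  eqL : ∀ x y z, x ≠ y → z ∈ L x y → z ≠ x → L x z = L x y
  equivar : ∀ (g : G) x y z, x ≠ y → (g • z ∈ L (g • x) (g • y) ↔ z ∈ L x y)

variable {G Ω} {p : ℕ} (S : Sys G Ω p)

/-- The two point stabilizer. -/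
def St2 (G : Type*) {Ω : Type*} [Group G] [MulAction G Ω] (x y : Ω) : Subgroup G :=
  stabilizer G x ⊓ stabilizer G y

theorem mem_St2 {x y : Ω} {g : G} : g ∈ St2 G x y ↔ g • x = x ∧ g • y = y :=
  Iff.rfl

theorem inv_smul_eq_self {x : Ω} {g : G} (h : g • x = x) : g⁻¹ • x = x :=
  inv_smul_eq_iff.2 h.symm

theorem smul_ne_of_fix {x y : Ω} {g : G} (h : g • x = x) (hy : y ≠ x) : g • y ≠ x := fun he =>
  hy ((smul_left_cancel g) (he.trans h.symm))

theorem eq_one_of_forall {g : G} (h : ∀ y : Ω, g • y = y) : g = 1 :=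
  eq_of_smul_eq_smul fun y => by rw [h y, one_smul]

theorem card_orbit_subgroup (A : Subgroup G) (y : Ω) :
    Nat.card (orbit A y) * Nat.card (A ⊓ stabilizer G y : Subgroup G) = Nat.card A := by
  have h : Nat.card (stabilizer A y) = Nat.card (A ⊓ stabilizer G y : Subgroup G) :=
    Nat.card_congr ⟨fun a => ⟨a.1.1, a.1.2, a.2⟩, fun a => ⟨⟨a.1, a.2.1⟩, a.2.2⟩,
      fun _ => rfl, fun _ => rfl⟩
  rw [← h, Nat.card_congr (orbitEquivQuotientStabilizer A y), mul_comm]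
  exact (stabilizer A y).card_mul_index

theorem St2_comm (x y : Ω) : St2 G x y = St2 G y x := inf_comm _ _

namespace Sys

include S

theorem two_lt : 2 < p := lt_of_le_of_ne S.hp.two_le (Ne.symm S.hp2)

theorem odd : Odd p := S.hp.odd_of_ne_two S.hp2

theorem L_smul_eq (g : G) {x y : Ω} (h : x ≠ y) :
    S.L (g • x) (g • y) = (S.L x y).map ⟨(g • ·), MulAction.injective g⟩ := by
  ext z
  simp only [Finset.mem_map, Function.Embedding.coeFn_mk]
  constructor
  · intro hz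
    exact ⟨g⁻¹ • z, (S.equivar g x y _ h).1 (by rwa [smul_inv_smul]), smul_inv_smul g z⟩
  · rintro ⟨w, hw, rfl⟩
    exact (S.equivar g x y w h).2 hw

theorem L_congr (g : G) {x y z : Ω} (hy : x ≠ y) (hz : x ≠ z) (h : S.L x y = S.L x z) :
    S.L (g • x) (g • y) = S.L (g • x) (g • z) := by
  rw [S.L_smul_eq g hy, S.L_smul_eq g hz, h]

theorem L_congr_fix {g : G} {x y z : Ω} (hg : g • x = x) (hy : x ≠ y) (hz : x ≠ z)
    (h : S.L x y = S.L x z) : S.L x (g • y) = S.L x (g • z) := by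
  have := S.L_congr g hy hz h
  rwa [hg] at this

theorem mem_iff_eq {x y z : Ω} (hy : x ≠ y) (hz : z ≠ x) :
    z ∈ S.L x y ↔ S.L x z = S.L x y :=
  ⟨fun h => S.eqL x y z hy h hz, fun h => h ▸ (S.mem x z hz.symm).2⟩

theorem card_erase {x y : Ω} (h : x ≠ y) : ((S.L x y).erase x).card = p := by
  rw [Finset.card_erase_of_mem (S.mem x y h).1, S.cardL x y h, Nat.add_sub_cancel]

/-- Lines are not symmetric. -/
theorem asym {x y : Ω} (h : x ≠ y) : S.L x y ≠ S.L y x := by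
  intro he
  refine no_lines S.hp.two_le S.hcard S.L S.mem S.cardL ?_ S.eqL
  intro a b hab
  obtain ⟨g, rfl, rfl⟩ := S.trans2 x y a b h hab
  rw [S.L_smul_eq g h, S.L_smul_eq g h.symm, he]

theorem L_eq_of_subset {x y z w : Ω} (h : x ≠ y) (h' : z ≠ w) (hs : S.L x y ⊆ S.L z w) :
    S.L x y = S.L z w :=
  Finset.eq_of_subset_of_card_le hs (by rw [S.cardL _ _ h, S.cardL _ _ h'])

/-- The kernel of a point stabilizer on the lines through the point. -/
def Ker (x : Ω) : Subgroup G where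
  carrier := {g | g • x = x ∧ ∀ y, y ≠ x → S.L x (g • y) = S.L x y}
  one_mem' := ⟨one_smul G x, fun y _ => by rw [one_smul]⟩
  mul_mem' := by
    rintro g h ⟨hg, hg'⟩ ⟨hh, hh'⟩
    refine ⟨by rw [mul_smul, hh, hg], fun y hy => ?_⟩
    rw [mul_smul, hg' _ (smul_ne_of_fix hh hy), hh' y hy]
  inv_mem' := by
    rintro g ⟨hg, hg'⟩
    refine ⟨inv_smul_eq_self hg, fun y hy => ?_⟩
    have := hg' (g⁻¹ • y) (smul_ne_of_fix (inv_smul_eq_self hg) hy)
    rwa [smul_inv_smul, eq_comm] at this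

theorem mem_Ker {x : Ω} {g : G} :
    g ∈ S.Ker x ↔ g • x = x ∧ ∀ y, y ≠ x → S.L x (g • y) = S.L x y := Iff.rfl

theorem Ker_le (x : Ω) : S.Ker x ≤ stabilizer G x := fun _ h => h.1

theorem conj_Ker {x : Ω} {g : G} (hg : g ∈ S.Ker x) (h : G) : h * g * h⁻¹ ∈ S.Ker (h • x) := by
  refine ⟨by rw [mul_smul, mul_smul, inv_smul_smul, hg.1], fun y hy => ?_⟩
  have hy' : h⁻¹ • y ≠ x := fun e => hy (by rw [← e, smul_inv_smul])
  have := S.L_congr h (Ne.symm (smul_ne_of_fix hg.1 hy')) (Ne.symm hy') (hg.2 _ hy')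
  rwa [smul_inv_smul, smul_smul, smul_smul] at this

theorem conj_Ker_fix {x : Ω} {g : G} (hg : g ∈ S.Ker x) {h : G} (hh : h • x = x) :
    h * g * h⁻¹ ∈ S.Ker x := by
  simpa [hh] using S.conj_Ker hg h

theorem ncard_compl (x : Ω) : ({x}ᶜ : Set Ω).ncard = p ^ 2 := by
  rw [Set.ncard_compl, Set.ncard_singleton, Nat.card_eq_fintype_card, S.hcard,
    Nat.add_sub_cancel]

theorem card_stabilizer {x y : Ω} (h : x ≠ y) :
    Nat.card (stabilizer G x) = p ^ 2 * Nat.card (St2 G x y) := by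
  have ho : orbit (stabilizer G x) y = ({x}ᶜ : Set Ω) := by
    ext z
    constructor
    · rintro ⟨⟨g, hg⟩, rfl⟩
      exact smul_ne_of_fix hg h.symm
    · intro hz
      obtain ⟨g, hg, hgy⟩ := S.trans2 x y x z h (Ne.symm hz)
      exact ⟨⟨g, hg⟩, hgy⟩
  rw [← card_orbit_subgroup (stabilizer G x) y, Nat.card_coe_set_eq, ho, S.ncard_compl]
  rfl

/-- A Sylow `p`-subgroup of a two point stabilizer fixes precisely a line. -/
theorem fix_sylow {x y : Ω} (h : x ≠ y) (hd : p ∣ Nat.card (St2 G x y)) (Q : Subgroup G)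
    (hQ : Q ≤ St2 G x y) (hQp : IsPGroup p Q)
    (hQc : Nat.card Q = p ^ (Nat.card (St2 G x y)).factorization p) :
    ∀ z, (∀ q ∈ Q, q • z = z) ↔ z ∈ S.L x y := by
  classical
  haveI := Fact.mk S.hp
  have hQx : Q ≤ stabilizer G x := hQ.trans inf_le_left
  obtain ⟨P₀, hP₀⟩ := (hQp.comap_of_injective (stabilizer G x).subtype
    (stabilizer G x).subtype_injective).exists_le_sylow
  set P : Subgroup G := (P₀ : Subgroup (stabilizer G x)).map (stabilizer G x).subtype with hPdef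
  have hQP : Q ≤ P := fun q hq => ⟨⟨q, hQx hq⟩, hP₀ hq, rfl⟩
  have hPx : P ≤ stabilizer G x := Subgroup.map_subtype_le _
  have hPp : IsPGroup p P := P₀.2.map _
  have hPc : Nat.card P = p ^ 2 * Nat.card Q := by
    rw [hPdef, Subgroup.card_map_of_injective (stabilizer G x).subtype_injective,
      Sylow.card_eq_multiplicity, S.card_stabilizer h,
      Nat.factorization_mul (pow_ne_zero _ S.hp.ne_zero) Nat.card_pos.ne', hQc, ← pow_add]
    simp [S.hp.factorization_self]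
  have hPy : P ⊓ stabilizer G y = Q := by
    refine (Subgroup.eq_of_le_of_card_ge (le_inf hQP (hQ.trans inf_le_right)) ?_).symm
    rw [hQc]
    obtain ⟨k, hk⟩ := IsPGroup.iff_card.1 (hPp.to_le (inf_le_left (b := stabilizer G y)))
    rw [hk]
    refine Nat.pow_le_pow_right S.hp.pos ((S.hp.pow_dvd_iff_le_factorization
      Nat.card_pos.ne').1 ?_)
    rw [← hk]
    exact Subgroup.card_dvd_of_le (inf_le_inf_right _ hPx)
  have hQpos : 0 < Nat.card Q := Nat.card_pos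
  have horb : orbit P y = ({x}ᶜ : Set Ω) := by
    have hc := card_orbit_subgroup P y
    rw [hPy, hPc] at hc
    refine Set.eq_of_subset_of_ncard_le ?_ ?_ (Set.toFinite _)
    · rintro _ ⟨⟨g, hg⟩, rfl⟩
      exact smul_ne_of_fix (hPx hg) h.symm
    · rw [S.ncard_compl, ← Nat.card_coe_set_eq, Nat.eq_of_mul_eq_mul_right hQpos hc]
  let SP : Subgroup G :=
    { carrier := {k | k ∈ P ∧ S.L x (k • y) = S.L x y}
      one_mem' := ⟨P.one_mem, by rw [one_smul]⟩
      mul_mem' := by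
        rintro k l ⟨hk, hk'⟩ ⟨hl, hl'⟩
        refine ⟨P.mul_mem hk hl, ?_⟩
        rw [mul_smul, S.L_congr_fix (hPx hk) (Ne.symm (smul_ne_of_fix (hPx hl) h.symm)) h hl', hk']
      inv_mem' := by
        rintro k ⟨hk, hk'⟩
        refine ⟨P.inv_mem hk, ?_⟩
        have := S.L_congr_fix (inv_smul_eq_self (hPx hk))
          (Ne.symm (smul_ne_of_fix (hPx hk) h.symm)) h hk'
        rwa [inv_smul_smul, eq_comm] at this }
  have hSPP : SP ≤ P := fun k hk => hk.1
  have horbS : orbit SP y = ↑((S.L x y).erase x) := by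
    ext z
    simp only [Finset.mem_coe, Finset.mem_erase]
    constructor
    · rintro ⟨⟨k, hk, hk'⟩, rfl⟩
      have hne := smul_ne_of_fix (hPx hk) h.symm
      exact ⟨hne, (S.mem_iff_eq h hne).2 hk'⟩
    · rintro ⟨hz, hzL⟩
      obtain ⟨⟨k, hk⟩, hkz⟩ : z ∈ orbit P y := horb ▸ hz
      simp only [Subgroup.mk_smul] at hkz
      refine ⟨⟨k, hk, ?_⟩, hkz⟩
      rw [hkz]
      exact S.eqL x y z h hzL hz
  have hSPy : SP ⊓ stabilizer G y = Q := by
    refine le_antisymm ((inf_le_inf_right _ hSPP).trans hPy.le) fun q hq => ?_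
    have hqy : q • y = y := (hQ hq).2
    exact ⟨⟨hQP hq, by rw [hqy]⟩, hqy⟩
  have hSPc : Nat.card SP = p * Nat.card Q := by
    have hc := card_orbit_subgroup SP y
    rw [hSPy, Nat.card_coe_set_eq, horbS, Set.ncard_coe_finset, S.card_erase h] at hc
    exact hc.symm
  have hnorm := conj_mem_of_index_prime S.hp (fun q hq => (hSPy.ge hq).1) (hPp.to_le hSPP) hSPc
  intro z
  constructor
  · intro hz
    by_cases hzx : z = x
    · exact hzx ▸ (S.mem x y h).1
    obtain ⟨⟨k, hk⟩, hkz⟩ : z ∈ orbit P y := horb ▸ hzx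
    simp only [Subgroup.mk_smul] at hkz
    have hkn : k⁻¹ ∈ Subgroup.normalizer (Q : Set G) := by
      refine mem_normalizer_of_conj fun q hq => ?_
      rw [← hPy]
      refine ⟨P.mul_mem (P.mul_mem (P.inv_mem hk) (hQP hq)) (P.inv_mem (P.inv_mem hk)), ?_⟩
      show (k⁻¹ * q * k⁻¹⁻¹) • y = y
      rw [inv_inv, mul_smul, mul_smul, hkz, hz q hq, ← hkz, inv_smul_smul]
    set N : Subgroup G := P ⊓ Subgroup.normalizer (Q : Set G) with hN
    have hSPN : SP ≤ N := fun s hs => ⟨hSPP hs, mem_normalizer_of_conj fun q hq => hnorm s hs q hq⟩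
    obtain ⟨d, hd'⟩ := Subgroup.card_dvd_of_le hSPN
    have hNP := Subgroup.card_dvd_of_le (inf_le_left : N ≤ P)
    rw [hd', hSPc, hPc, show p ^ 2 * Nat.card Q = p * Nat.card Q * p by ring] at hNP
    have hdp : d ∣ p := Nat.dvd_of_mul_dvd_mul_left (Nat.mul_pos S.hp.pos hQpos) hNP
    rcases S.hp.eq_one_or_self_of_dvd d hdp with rfl | hdp
    · have he : N = SP := (Subgroup.eq_of_le_of_card_ge hSPN (by rw [hd', mul_one])).symm
      have hk' : k⁻¹ ∈ SP := he ▸ ⟨P.inv_mem hk, hkn⟩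
      have hk'' : k ∈ SP := inv_mem_iff.1 hk'
      refine (S.mem_iff_eq h hzx).2 ?_
      rw [← hkz]
      exact hk''.2
    · exfalso
      have he : N = P := Subgroup.eq_of_le_of_card_ge inf_le_left
        (by rw [hd', hdp, hSPc, hPc]; exact le_of_eq (by ring))
      have hQ1 : Q = ⊥ := (Subgroup.eq_bot_iff_forall Q).2 fun q hq => eq_one_of_forall (Ω := Ω) fun w => by
        by_cases hwx : w = x
        · exact hwx ▸ hQx hq
        obtain ⟨⟨l, hl⟩, hlw⟩ : w ∈ orbit P y := horb ▸ hwx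
        simp only [Subgroup.mk_smul] at hlw
        have hln : l⁻¹ ∈ N := he.symm ▸ P.inv_mem hl
        have h1 := (Subgroup.mem_normalizer_iff.1 hln.2 q).1 hq
        have h2 : (l⁻¹ * q * l⁻¹⁻¹) • y = y := (hQ h1).2
        rw [inv_inv, mul_smul, mul_smul, hlw, inv_smul_eq_iff, hlw] at h2
        exact h2
      rw [hQ1, Subgroup.card_bot] at hQc
      have := (S.hp.dvd_iff_one_le_factorization Nat.card_pos.ne').1 hd
      have h2 := Nat.one_lt_pow (by omega : (Nat.card (St2 G x y)).factorization p ≠ 0) S.hp.one_lt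
      omega
  · intro hz q hq
    by_cases hzx : z = x
    · exact hzx ▸ hQx hq
    obtain ⟨⟨k, hk⟩, hkz⟩ : z ∈ orbit SP y := horbS ▸ Finset.mem_erase.2 ⟨hzx, hz⟩
    simp only [Subgroup.mk_smul] at hkz
    have h1 : (k⁻¹ * q * k⁻¹⁻¹) • y = y := (hQ (hnorm k⁻¹ (SP.inv_mem hk) q hq)).2
    rw [inv_inv, mul_smul, mul_smul, hkz, inv_smul_eq_iff, hkz] at h1
    exact h1

/-- `p` does not divide the order of a two point stabilizer. -/
theorem not_dvd {x y : Ω} (h : x ≠ y) : ¬ p ∣ Nat.card (St2 G x y) := by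
  intro hd
  haveI := Fact.mk S.hp
  obtain ⟨Q₀⟩ : Nonempty (Sylow p (St2 G x y)) := inferInstance
  set Q : Subgroup G := (Q₀ : Subgroup (St2 G x y)).map (St2 G x y).subtype
  have hQ : Q ≤ St2 G x y := Subgroup.map_subtype_le _
  have hQc : Nat.card Q = p ^ (Nat.card (St2 G x y)).factorization p := by
    rw [Subgroup.card_map_of_injective (St2 G x y).subtype_injective, Sylow.card_eq_multiplicity]
  have hQp : IsPGroup p Q := Q₀.2.map _
  have h1 := S.fix_sylow h hd Q hQ hQp hQc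
  have h2 := S.fix_sylow h.symm (by rwa [St2_comm]) Q (by rwa [St2_comm]) hQp
    (by rwa [St2_comm y x])
  exact S.asym h (Finset.ext fun z => (h1 z).symm.trans (h2 z))

/-- An element of `p`-power order of a point stabilizer fixing another point is trivial. -/
theorem eq_one_of_fix {x y : Ω} (h : x ≠ y) {g : G} (hx : g • x = x) (hy : g • y = y) {k : ℕ}
    (hg : g ^ p ^ k = 1) : g = 1 := by
  have h1 : orderOf g ∣ p ^ k := orderOf_dvd_of_pow_eq_one hg
  have h2 : orderOf g ∣ Nat.card (St2 G x y) := Subgroup.orderOf_dvd_natCard _ ⟨hx, hy⟩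
  obtain ⟨i, -, hi⟩ := (Nat.dvd_prime_pow S.hp).1 h1
  rcases i with _ | i
  · rwa [pow_zero, orderOf_eq_one_iff] at hi
  · exact absurd ((dvd_pow_self p (Nat.succ_ne_zero i)).trans (hi ▸ h2)) (S.not_dvd h)

/-- The lines through a point. -/
def Ln (x : Ω) : Type _ := {ℓ : Finset Ω // ∃ y, y ≠ x ∧ S.L x y = ℓ}

instance (x : Ω) : Finite (S.Ln x) := Subtype.finite

/-- The line of a point. -/
def ln (x y : Ω) (h : y ≠ x) : S.Ln x := ⟨S.L x y, y, h, rfl⟩

theorem ln_eq {x y z : Ω} {hy : y ≠ x} {hz : z ≠ x} :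
    S.ln x y hy = S.ln x z hz ↔ S.L x y = S.L x z :=
  Subtype.ext_iff

theorem ln_surj {x : Ω} (ℓ : S.Ln x) : ∃ y, ∃ h : y ≠ x, S.ln x y h = ℓ := by
  obtain ⟨ℓ, y, hy, rfl⟩ := ℓ
  exact ⟨y, hy, rfl⟩

instance lnAction (x : Ω) : MulAction (stabilizer G x) (S.Ln x) where
  smul g ℓ := ⟨ℓ.1.map ⟨((g : G) • ·), MulAction.injective (g : G)⟩, by
    obtain ⟨y, hy, he⟩ := ℓ.2
    refine ⟨(g : G) • y, smul_ne_of_fix g.2 hy, ?_⟩
    rw [← he, ← S.L_smul_eq (g : G) (Ne.symm hy), show (g : G) • x = x from g.2]⟩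
  one_smul ℓ := Subtype.ext (by
    show ℓ.1.map _ = ℓ.1
    ext z
    simp)
  mul_smul g h ℓ := Subtype.ext (by
    show ℓ.1.map _ = (ℓ.1.map _).map _
    rw [Finset.map_map]
    congr 1
    ext z
    simp [mul_smul])

theorem smul_ln {x y : Ω} (hy : y ≠ x) (g : stabilizer G x) :
    g • S.ln x y hy = S.ln x ((g : G) • y) (smul_ne_of_fix g.2 hy) := by
  refine Subtype.ext ?_
  show (S.L x y).map _ = S.L x ((g : G) • y)
  rw [← S.L_smul_eq (g : G) (Ne.symm hy), show (g : G) • x = x from g.2]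

/-- The group induced on the lines through a point. -/
def lineGroup (x : Ω) : Subgroup (Equiv.Perm (S.Ln x)) :=
  (MulAction.toPermHom (stabilizer G x) (S.Ln x)).range

theorem mem_Ker_iff {x : Ω} (g : stabilizer G x) :
    (g : G) ∈ S.Ker x ↔ MulAction.toPermHom (stabilizer G x) (S.Ln x) g = 1 := by
  constructor
  · intro hg
    refine Equiv.ext fun ℓ => ?_
    obtain ⟨y, hy, rfl⟩ := S.ln_surj ℓ
    show g • S.ln x y hy = S.ln x y hy
    rw [smul_ln, ln_eq]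
    exact hg.2 y hy
  · intro hg
    refine ⟨g.2, fun y hy => ?_⟩
    have : g • S.ln x y hy = S.ln x y hy := Equiv.congr_fun hg (S.ln x y hy)
    rwa [smul_ln, ln_eq] at this

theorem card_Ln (x : Ω) : Nat.card (S.Ln x) = p := by
  classical
  have e : Nat.card (S.Ln x) = ((Finset.univ.erase x).image (S.L x)).card := by
    rw [← Fintype.card_coe, ← Nat.card_eq_fintype_card]
    exact Nat.card_congr (Equiv.subtypeEquivRight fun ℓ => by simp)
  have h := Finset.card_eq_sum_card_image (S.L x) ((Finset.univ : Finset Ω).erase x)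
  have hf : ∀ ℓ ∈ (Finset.univ.erase x).image (S.L x),
      ((Finset.univ.erase x).filter fun z => S.L x z = ℓ).card = p := by
    intro ℓ hℓ
    simp only [Finset.mem_image, Finset.mem_erase, Finset.mem_univ, and_true] at hℓ
    obtain ⟨y, hy, rfl⟩ := hℓ
    refine Eq.trans ?_ (S.card_erase (Ne.symm hy))
    congr 1
    ext z
    simp only [Finset.mem_filter, Finset.mem_erase, Finset.mem_univ, and_true]
    exact and_congr_right fun hz => (S.mem_iff_eq (Ne.symm hy) hz).symm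
  rw [Finset.sum_congr rfl hf, Finset.sum_const, smul_eq_mul,
    Finset.card_erase_of_mem (Finset.mem_univ x), Finset.card_univ, S.hcard,
    Nat.add_sub_cancel, pow_two, ← e] at h
  exact (Nat.eq_of_mul_eq_mul_right S.hp.pos h).symm

theorem prime_Ln (x : Ω) : (Nat.card (S.Ln x)).Prime := by
  rw [S.card_Ln]
  exact S.hp

theorem lineGroup_trans {x : Ω} (ℓ m : S.Ln x) : ∃ h ∈ S.lineGroup x, h ℓ = m := by
  obtain ⟨y, hy, rfl⟩ := S.ln_surj ℓ
  obtain ⟨z, hz, rfl⟩ := S.ln_surj m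
  obtain ⟨g, hg, hgy⟩ := S.trans2 x y x z (Ne.symm hy) (Ne.symm hz)
  refine ⟨_, ⟨⟨g, hg⟩, rfl⟩, ?_⟩
  show (⟨g, hg⟩ : stabilizer G x) • S.ln x y hy = S.ln x z hz
  rw [smul_ln, ln_eq]
  show S.L x (g • y) = _
  rw [hgy]

/-- An invariant equivalence relation relating two points on different lines relates all. -/
theorem rel_points {x : Ω} (R : Ω → Ω → Prop) (hrefl : ∀ y, R y y)
    (hsymm : ∀ y z, R y z → R z y) (htrans : ∀ y z w, R y z → R z w → R y w)
    (hline : ∀ y z, y ≠ x → z ≠ x → S.L x y = S.L x z → R y z)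
    (hinv : ∀ g : G, g • x = x → ∀ y z, y ≠ x → z ≠ x → R y z → R (g • y) (g • z))
    (hex : ∃ y z, y ≠ x ∧ z ≠ x ∧ S.L x y ≠ S.L x z ∧ R y z) :
    ∀ y z, y ≠ x → z ≠ x → R y z := by
  have key := rel_all (S.prime_Ln x) (S.lineGroup_trans)
    (fun ℓ m => ∃ y z, ∃ hy : y ≠ x, ∃ hz : z ≠ x, S.ln x y hy = ℓ ∧ S.ln x z hz = m ∧ R y z)
    ⟨fun ℓ => ?_, ?_, ?_⟩ ?_ ?_
  · intro y z hy hz
    obtain ⟨y', z', hy', hz', h1, h2, h3⟩ := key (S.ln x y hy) (S.ln x z hz)
    rw [ln_eq] at h1 h2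
    exact htrans _ _ _ (hline _ _ hy hy' h1.symm) (htrans _ _ _ h3 (hline _ _ hz' hz h2))
  · obtain ⟨y, hy, rfl⟩ := S.ln_surj ℓ
    exact ⟨y, y, hy, hy, rfl, rfl, hrefl y⟩
  · rintro ℓ m ⟨y, z, hy, hz, h1, h2, h3⟩
    exact ⟨z, y, hz, hy, h2, h1, hsymm _ _ h3⟩
  · rintro ℓ m k ⟨y, z, hy, hz, h1, h2, h3⟩ ⟨y', z', hy', hz', h1', h2', h3'⟩
    refine ⟨y, z', hy, hz', h1, h2', htrans _ _ _ h3 (htrans _ _ _ ?_ h3')⟩
    exact hline _ _ hz hy' ((S.ln_eq (hy := hz) (hz := hy')).1 (h2.trans h1'.symm))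
  · rintro _ ⟨g, rfl⟩ _ _ ⟨y, z, hy, hz, rfl, rfl, h3⟩
    exact ⟨_, _, _, _, (S.smul_ln hy g).symm, (S.smul_ln hz g).symm, hinv g g.2 y z hy hz h3⟩
  · obtain ⟨y, z, hy, hz, hne, hR⟩ := hex
    exact ⟨S.ln x y hy, S.ln x z hz, fun e => hne (S.ln_eq.1 e), y, z, hy, hz, rfl, rfl, hR⟩

/-- A regular subgroup of order `p²` of a point stabilizer. -/
theorem exists_P (x : Ω) : ∃ P : Subgroup G, P ≤ stabilizer G x ∧ Nat.card P = p ^ 2 ∧
    (∀ k ∈ P, ∀ y, y ≠ x → k • y = y → k = 1) ∧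
    (∀ y z, y ≠ x → z ≠ x → ∃ k ∈ P, k • y = z) ∧ (∀ k ∈ P, ∀ l ∈ P, k * l = l * k) := by
  haveI := Fact.mk S.hp
  obtain ⟨y, hy⟩ : ∃ y, y ≠ x := Fintype.exists_ne_of_one_lt_card
    (by rw [S.hcard]; have := S.hp.two_le; nlinarith) x
  obtain ⟨P₀⟩ : Nonempty (Sylow p (stabilizer G x)) := inferInstance
  set P : Subgroup G := (P₀ : Subgroup (stabilizer G x)).map (stabilizer G x).subtype
  have hPx : P ≤ stabilizer G x := Subgroup.map_subtype_le _
  have hc : Nat.card P = p ^ 2 := by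
    rw [Subgroup.card_map_of_injective (stabilizer G x).subtype_injective,
      Sylow.card_eq_multiplicity, S.card_stabilizer (Ne.symm hy),
      Nat.factorization_mul (pow_ne_zero _ S.hp.ne_zero) Nat.card_pos.ne']
    simp [S.hp.factorization_self,
      Nat.factorization_eq_zero_of_not_dvd (S.not_dvd (Ne.symm hy))]
  have hfree : ∀ k ∈ P, ∀ y, y ≠ x → k • y = y → k = 1 := fun k hk y hy hky =>
    S.eq_one_of_fix (Ne.symm hy) (hPx hk) hky (k := 2)
      (by rw [← hc, ← orderOf_dvd_iff_pow_eq_one]; exact Subgroup.orderOf_dvd_natCard P hk)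
  refine ⟨P, hPx, hc, hfree, fun y z hy hz => ?_, fun k hk l hl => ?_⟩
  · have hc' := card_orbit_subgroup P y
    rw [show P ⊓ stabilizer G y = ⊥ from
      (Subgroup.eq_bot_iff_forall _).2 fun k hk => hfree k hk.1 y hy hk.2,
      Subgroup.card_bot, mul_one, hc, Nat.card_coe_set_eq] at hc'
    have he : orbit P y = ({x}ᶜ : Set Ω) := Set.eq_of_subset_of_ncard_le
      (by rintro _ ⟨⟨g, hg⟩, rfl⟩; exact smul_ne_of_fix (hPx hg) hy)
      (by rw [S.ncard_compl, hc']) (Set.toFinite _)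
    obtain ⟨⟨k, hk⟩, hkz⟩ : z ∈ orbit P y := he ▸ hz
    exact ⟨k, hk, hkz⟩
  · letI := IsPGroup.commGroupOfCardEqPrimeSq (p := p) (G := P) hc
    exact congrArg Subtype.val (mul_comm (⟨k, hk⟩ : P) ⟨l, hl⟩)

/-- A subgroup of order `p` fixing all lines through a point. -/
theorem exists_X (x : Ω) {P : Subgroup G} (hPx : P ≤ stabilizer G x)
    (hc : Nat.card P = p ^ 2) (htr : ∀ y z, y ≠ x → z ≠ x → ∃ k ∈ P, k • y = z)
    (hcomm : ∀ k ∈ P, ∀ l ∈ P, k * l = l * k) : Nat.card (P ⊓ S.Ker x : Subgroup G) = p := by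
  classical
  obtain ⟨y, hy⟩ : ∃ y, y ≠ x := Fintype.exists_ne_of_one_lt_card
    (by rw [S.hcard]; have := S.hp.two_le; nlinarith) x
  have hfree : P ⊓ stabilizer G y = ⊥ := by
    refine (Subgroup.eq_bot_iff_forall _).2 fun k hk => eq_one_of_forall (Ω := Ω) fun w => ?_
    by_cases hw : w = x
    · exact hw ▸ hPx hk.1
    obtain ⟨l, hl, rfl⟩ := htr y w hy hw
    rw [smul_smul, hcomm k hk.1 l hl, mul_smul, show k • y = y from hk.2]
  have he : orbit (P ⊓ S.Ker x : Subgroup G) y = ↑((S.L x y).erase x) := by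
    ext z
    simp only [Finset.mem_coe, Finset.mem_erase]
    constructor
    · rintro ⟨⟨k, hk, hk'⟩, rfl⟩
      have hne := smul_ne_of_fix (hPx hk) hy
      exact ⟨hne, (S.mem_iff_eq (Ne.symm hy) hne).2 (hk'.2 y hy)⟩
    · rintro ⟨hz, hzL⟩
      obtain ⟨k, hk, hkz⟩ := htr y z hy hz
      refine ⟨⟨k, hk, hPx hk, fun w hw => ?_⟩, hkz⟩
      obtain ⟨l, hl, rfl⟩ := htr y w hy hw
      rw [smul_smul, hcomm k hk l hl, mul_smul]
      exact S.L_congr_fix (hPx hl) (Ne.symm (smul_ne_of_fix (hPx hk) hy)) (Ne.symm hy)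
        (by rw [hkz]; exact S.eqL x y z (Ne.symm hy) hzL hz)
  have h := card_orbit_subgroup (P ⊓ S.Ker x : Subgroup G) y
  rw [show (P ⊓ S.Ker x) ⊓ stabilizer G y = ⊥ from
    eq_bot_iff.2 ((inf_le_inf_right _ inf_le_left).trans hfree.le),
    Subgroup.card_bot, mul_one, Nat.card_coe_set_eq, he, Set.ncard_coe_finset,
    S.card_erase (Ne.symm hy)] at h
  exact h.symm

theorem pow_eq_one_of_mem {X : Subgroup G} (hX : Nat.card X = p) {g : G} (hg : g ∈ X) :
    g ^ p = 1 := by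
  rw [← hX, ← orderOf_dvd_iff_pow_eq_one]
  exact Subgroup.orderOf_dvd_natCard X hg

/-- A subgroup of order `p` of the kernel is transitive on each line. -/
theorem X_trans {x : Ω} {X : Subgroup G} (hXK : X ≤ S.Ker x) (hXc : Nat.card X = p) {y z : Ω}
    (hy : y ≠ x) (hz : z ≠ x) (h : S.L x y = S.L x z) : ∃ k ∈ X, k • y = z := by
  have hc := card_orbit_subgroup X y
  rw [show X ⊓ stabilizer G y = ⊥ from (Subgroup.eq_bot_iff_forall _).2 fun k hk =>
      S.eq_one_of_fix (Ne.symm hy) (hXK hk.1).1 hk.2 (k := 1)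
        (by rw [pow_one]; exact S.pow_eq_one_of_mem hXc hk.1),
    Subgroup.card_bot, mul_one, hXc, Nat.card_coe_set_eq] at hc
  have he : orbit X y = ↑((S.L x y).erase x) := Set.eq_of_subset_of_ncard_le
    (by
      rintro _ ⟨⟨g, hg⟩, rfl⟩
      have hne := smul_ne_of_fix (hXK hg).1 hy
      exact Finset.mem_coe.2 (Finset.mem_erase.2 ⟨hne, (S.mem_iff_eq (Ne.symm hy) hne).2
        ((hXK hg).2 y hy)⟩))
    (by rw [Set.ncard_coe_finset, S.card_erase (Ne.symm hy), hc]) (Set.toFinite _)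
  obtain ⟨⟨k, hk⟩, hkz⟩ : z ∈ orbit X y :=
    he ▸ Finset.mem_coe.2 (Finset.mem_erase.2 ⟨hz, (S.mem_iff_eq (Ne.symm hy) hz).2 h.symm⟩)
  exact ⟨k, hk, hkz⟩

theorem exists_Ker_trans {x y z : Ω} (hy : y ≠ x) (hz : z ≠ x) (h : S.L x y = S.L x z) :
    ∃ k ∈ S.Ker x, k • y = z := by
  obtain ⟨P, hPx, hc, -, htr, hcomm⟩ := S.exists_P x
  obtain ⟨k, hk, hkz⟩ := S.X_trans inf_le_right (S.exists_X x hPx hc htr hcomm) hy hz h
  exact ⟨k, hk.2, hkz⟩

theorem not_sq_dvd_Ker (x : Ω) : ¬ p ^ 2 ∣ Nat.card (S.Ker x) := by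
  intro hd
  haveI := Fact.mk S.hp
  obtain ⟨y, hy⟩ : ∃ y, y ≠ x := Fintype.exists_ne_of_one_lt_card
    (by rw [S.hcard]; have := S.hp.two_le; nlinarith) x
  obtain ⟨Q, hQ⟩ := Sylow.exists_subgroup_card_pow_prime p hd
  let Q' : Subgroup G := Q.map (S.Ker x).subtype
  have hQK : Q' ≤ S.Ker x := Subgroup.map_subtype_le _
  have hc := card_orbit_subgroup Q' y
  rw [show Q' ⊓ stabilizer G y = ⊥ from (Subgroup.eq_bot_iff_forall _).2 fun k hk =>
      S.eq_one_of_fix (Ne.symm hy) (hQK hk.1).1 hk.2 (k := 2) (by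
        rw [← orderOf_dvd_iff_pow_eq_one, ← hQ,
          ← Subgroup.card_map_of_injective (S.Ker x).subtype_injective]
        exact Subgroup.orderOf_dvd_natCard Q' hk.1),
    Subgroup.card_bot, mul_one, Subgroup.card_map_of_injective (S.Ker x).subtype_injective, hQ,
    Nat.card_coe_set_eq] at hc
  have hle : (orbit Q' y).ncard ≤ (↑((S.L x y).erase x) : Set Ω).ncard := by
    refine Set.ncard_le_ncard ?_ (Set.toFinite _)
    rintro _ ⟨⟨g, hg⟩, rfl⟩
    have hne := smul_ne_of_fix (hQK hg).1 hy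
    exact Finset.mem_coe.2 (Finset.mem_erase.2 ⟨hne, (S.mem_iff_eq (Ne.symm hy) hne).2
      ((hQK hg).2 y hy)⟩)
  rw [hc, Set.ncard_coe_finset, S.card_erase (Ne.symm hy)] at hle
  have := S.hp.two_le
  nlinarith

/-- Only the identity of the group on lines fixes two lines. -/
def SR (x : Ω) : Prop := ∀ g : G, g • x = x → ∀ y z, y ≠ x → z ≠ x → S.L x y ≠ S.L x z →
  S.L x (g • y) = S.L x y → S.L x (g • z) = S.L x z → g ∈ S.Ker x

theorem SR_of_SRG {x : Ω} (h : SRG (S.lineGroup x)) : S.SR x := by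
  intro g hg y z hy hz hne hgy hgz
  rw [S.mem_Ker_iff (⟨g, hg⟩ : stabilizer G x)]
  refine h _ ⟨_, rfl⟩ (S.ln x y hy) (S.ln x z hz) (fun e => hne (S.ln_eq.1 e)) ?_ ?_
  · show (⟨g, hg⟩ : stabilizer G x) • S.ln x y hy = _
    rw [smul_ln, ln_eq]
    exact hgy
  · show (⟨g, hg⟩ : stabilizer G x) • S.ln x z hz = _
    rw [smul_ln, ln_eq]
    exact hgz

theorem SR_smul {x : Ω} (h : S.SR x) (u : G) : S.SR (u • x) := by
  intro g hg y z hy hz hne hgy hgz
  have hg' : (u⁻¹ * g * u) • x = x := by rw [mul_smul, mul_smul, hg, inv_smul_smul]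
  have hy' : u⁻¹ • y ≠ x := fun e => hy (by rw [← e, smul_inv_smul])
  have hz' : u⁻¹ • z ≠ x := fun e => hz (by rw [← e, smul_inv_smul])
  have conv : ∀ w, w ≠ u • x → S.L (u • x) (g • w) = S.L (u • x) w →
      S.L x ((u⁻¹ * g * u) • u⁻¹ • w) = S.L x (u⁻¹ • w) := by
    intro w hw he
    have h1 := S.L_congr u⁻¹ (Ne.symm (smul_ne_of_fix hg hw)) (Ne.symm hw) he
    rw [inv_smul_smul] at h1
    rwa [mul_smul, mul_smul, smul_inv_smul]
  have hm : u⁻¹ * g * u ∈ S.Ker x := h _ hg' _ _ hy' hz'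
    (fun e => hne (by
      have := S.L_congr u (Ne.symm hy') (Ne.symm hz') e
      rwa [smul_inv_smul, smul_inv_smul] at this))
    (conv y hy hgy) (conv z hz hgz)
  have := S.conj_Ker hm u
  rwa [show u * (u⁻¹ * g * u) * u⁻¹ = g by group] at this

/-- A normal subgroup of a two point stabilizer outside the kernel fixes only points of the line. -/
theorem only_fix {x y : Ω} (hy : y ≠ x) (N : Subgroup G) (hN : N ≤ St2 G x y)
    (hnorm : ∀ g ∈ St2 G x y, ∀ n ∈ N, g * n * g⁻¹ ∈ N) (hne : ¬ N ≤ S.Ker x) {z : Ω}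
    (hz : ∀ n ∈ N, n • z = z) : z ∈ S.L x y := by
  by_cases hzx : z = x
  · exact hzx ▸ (S.mem x y (Ne.symm hy)).1
  set φ := MulAction.toPermHom (stabilizer G x) (S.Ln x) with hφ
  let N' : Subgroup (Equiv.Perm (S.Ln x)) := (N.subgroupOf (stabilizer G x)).map φ
  have key := fix_only (S.prime_Ln x) (S.lineGroup_trans) (i := S.ln x y hy) N' ?_ ?_ ?_ ?_
    (j := S.ln x z hzx) ?_
  · exact (S.mem_iff_eq (Ne.symm hy) hzx).2 (S.ln_eq.1 key)
  · rintro _ ⟨n, -, rfl⟩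
    exact ⟨n, rfl⟩
  · rintro _ ⟨n, hn, rfl⟩
    show n • S.ln x y hy = _
    rw [smul_ln, ln_eq, show (n : G) • y = y from (hN hn).2]
  · rintro _ ⟨g, rfl⟩ hg _ ⟨n, hn, rfl⟩
    change g • S.ln x y hy = _ at hg
    rw [smul_ln, ln_eq] at hg
    obtain ⟨k, hk, hky⟩ := S.exists_Ker_trans (smul_ne_of_fix g.2 hy) hy hg
    let k' : stabilizer G x := ⟨k, hk.1⟩
    have hk1 : φ k' = 1 := (S.mem_Ker_iff k').1 hk
    refine ⟨k' * g * n * (k' * g)⁻¹, ?_, ?_⟩
    · show k * (g : G) * (n : G) * (k * (g : G))⁻¹ ∈ N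
      exact hnorm _ ⟨show (k * (g : G)) • x = x by rw [mul_smul, show (g : G) • x = x from g.2, hk.1],
        show (k * (g : G)) • y = y by rw [mul_smul, hky]⟩ _ hn
    · rw [map_mul, map_mul, map_inv, map_mul, hk1, one_mul]
  · intro h0
    refine hne fun n hn => ?_
    have hm : φ ⟨n, (hN hn).1⟩ ∈ N' := ⟨⟨n, (hN hn).1⟩, hn, rfl⟩
    rw [h0, Subgroup.mem_bot] at hm
    exact (S.mem_Ker_iff ⟨n, (hN hn).1⟩).2 hm
  · rintro _ ⟨n, hn, rfl⟩
    show n • S.ln x z hzx = _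
    rw [smul_ln, ln_eq, hz n hn]

end Sys

end CfsgLib.DoublyPrim
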